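import Cfsg.Agent.JR.J0a

/-! Simple groups of order 60. -/

set_option autoImplicit false
set_option linter.unusedSectionVars false

namespace Cfsg.Agent.JR

open Subgroup Cfsg.Agent.FT

theorem iso60 {G : Type*} [Group G] [IsSimpleGroup G] (hc : Nat.card G = 60) {H : Subgroup G}
    (hH : H.index = 5) : Nonempty (G ≃* alternatingGroup (Fin 5)) := by
  have h1 : H.normalCore = ⊥ := H.normalCore_normal.eq_bot_or_eq_top.resolve_right fun h => by
    rw [top_le_iff.1 (h.ge.trans H.normalCore_le), index_top] at hH; omega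
  rw [normalCore_eq_ker, MonoidHom.ker_eq_bot_iff] at h1
  let ι : G ⧸ H ≃ Fin 5 := (Nat.equivFinOfCardPos (by rw [← index, hH]; decide)).trans (finCongr hH)
  let f : G →* Equiv.Perm (Fin 5) := ι.permCongrHom.toMonoidHom.comp (MulAction.toPermHom G (G ⧸ H))
  have hf : Function.Injective f := ι.permCongrHom.injective.comp h1
  have hsign : ∀ g, f g ∈ alternatingGroup (Fin 5) := by
    rcases (MonoidHom.normal_ker (Equiv.Perm.sign.comp f)).eq_bot_or_eq_top with h | h
    · have := Nat.card_le_card_of_injective _ ((MonoidHom.ker_eq_bot_iff _).1 h)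
      rw [hc, Nat.card_eq_fintype_card, Fintype.card_units_int] at this
      omega
    · exact fun g => (h ▸ mem_top g : g ∈ (Equiv.Perm.sign.comp f).ker)
  exact ⟨MulEquiv.ofBijective (f.codRestrict _ hsign) ((Nat.bijective_iff_injective_and_card _).2
    ⟨fun a b e => hf (congrArg Subtype.val e), by rw [hc, nat_card_alternatingGroup]; simp [Nat.factorial]⟩)⟩

theorem iso_A5 {F : Type} [Field F] [Fintype F] (h : Fintype.card F = 5) :
    Nonempty (L2 F ≃* alternatingGroup (Fin 5)) := by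
  haveI := (MC.F0_simple (F := F) (by omega)).1
  have hc := MC.F0_card (F := F)
  rw [h] at hc
  replace hc : Nat.card (L2 F) = 60 := Nat.eq_of_mul_eq_mul_left two_pos hc
  obtain ⟨u, v, τ, h1, h2, h3, h4⟩ := j0_a4 (F := F) (by rw [h]; decide)
  have h5 : τ ∈ 𝐍(V4 u v) := by
    rw [← cj_eq_iff_mem_normalizer, cj_V4, h3, h4, V4_symm u v, h1.comm, V4_mul]
  have h6 : 4 ∣ ♯𝐍(V4 u v) := card_V4 h1 ▸ card_dvd_of_le' le_normalizer
  have h7 : 3 ∣ ♯𝐍(V4 u v) := h2 ▸ orderOf_dvd_card' h5
  have h8 := (𝐍(V4 u v)).card_mul_index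
  have h9 : (𝐍(V4 u v)).index ≠ 1 := fun e => by
    have := card_V4 h1
    rcases (normalizer_eq_top_iff.1 (index_eq_one.1 e)).eq_bot_or_eq_top with k | k <;> rw [k] at this
    · simp at this
    · rw [card_top] at this; omega
  obtain ⟨c, e⟩ : 12 ∣ ♯𝐍(V4 u v) := by omega
  rw [hc, e] at h8
  exact iso60 hc ((Nat.prime_five.eq_one_or_self_of_dvd _ ⟨c, by linarith⟩).resolve_left h9)

end Cfsg.Agent.JR
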