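import Cfsg.Agent.JR.Iso1
import Cfsg.Agent.JR.Iso2

/-! Piece ISO. -/

set_option autoImplicit false

namespace Cfsg.Agent.JR

open Subgroup Cfsg.Agent.FT

theorem isoJ1 {G : Type*} [Group G] [Finite G] [IsSimpleGroup G]
    (hA : ∀ (p : ℕ), p.Prime → ∀ (P : Sylow p G), IsMulCommutative ↥P) {t : G} (ht : orderOf t = 2)
    (e : centralizer ({t} : Set G) ≃* Z2A5) : Cfsg.Spor.IsoJ1 G := by
  obtain ⟨P, hP⟩ := (isPGroup_of_card_prime (X := zpowers t) (p := 2)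
    (by rw [Nat.card_zpowers, ht])).exists_le_sylow
  exact isoJ1' ⟨ht, P, hP (mem_zpowers t), fun x hx =>
    mem_cent_iff.1 (comm_iff_le_cent.1 (hA 2 Nat.prime_two P) (hP (mem_zpowers t))) x hx⟩ e

end Cfsg.Agent.JR
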