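import Cfsg.Agent.JR.J2b
import Cfsg.Agent.JR.J3c
import Cfsg.Agent.JR.J5b
import Cfsg.Agent.JR.J7
import Cfsg.Agent.JR.J9b
import Cfsg.Agent.JR.Iso

/-! The Janko-Ree case: assembly. -/

set_option autoImplicit false
set_option linter.unusedSectionVars false

namespace Cfsg.Agent.JR

open Subgroup Cfsg.Agent.FT

universe u
variable {G : Type u} [Group G] [Finite G] {p n m k : ℕ} {e : ℤ}

theorem JR.tti (h : JR G p n m k e) : TTI G k := by
  have h3 := J3b h
  by_contra hT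
  obtain ⟨r, hr, hrk, hb⟩ := J5a h h3 (J3c h) hT
  obtain ⟨-, a2, -, a4, τ, y, s, b1, b2, b3, b4, b5⟩ := J5b h h3 hr hrk hb
  have hk3 : ¬ 3 ∣ k := fun hd => (J5b h h3 Nat.prime_three hd (a2 3 Nat.prime_three hd)).1 rfl
  have hp : p = 3 := by
    rcases h.ar.facts.2.2.2.2.2.2.2.2.1 with a | a | a
    · exact absurd a h3
    · exact absurd a hk3
    · exact a
  subst hp
  have c3 : Nat.Coprime 3 (k ^ 3) := ((Nat.Prime.coprime_iff_not_dvd Nat.prime_three).2 hk3).pow_right 3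
  refine J5c h h3 (fun t w T hT y hy y1 hd => ?_) hr hrk (fun U U1 hU hd => ?_) b1 b2 b3 b4 b5
  · have o1 : orderOf y ≠ 1 := fun e => y1 (orderOf_eq_one_iff.1 e)
    obtain ⟨l, hl, hly⟩ := Nat.exists_prime_and_dvd o1
    have hlk : l ∣ k := hly.trans (hT.card ▸ orderOf_dvd_natCard _ hy)
    have o2 : orderOf (y ^ (orderOf y / l)) = l := orderOf_pow_orderOf_div (orderOf_pos y).ne' hly
    have := (J5b h h3 hl hlk (a2 l hl hlk)).2.2.1 t w T hT _ (pow_mem hy _) o2
    have h4 := (hd.trans (card_dvd_of_le' (cent1_le_cent1_pow y _))).trans this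
    have := c3.dvd_of_dvd_mul_right h4
    omega
  · have := (c3.pow_left 2).dvd_of_dvd_mul_right (hd.trans (a4 U U1 hU))
    omega

theorem JR.false (h : JR G p n m k e) : False := by
  have h3 := J3b h
  have hx := J3c h
  have hT := h.tti
  obtain ⟨⟨g', a1, a2⟩, N, a3, a4⟩ := J6d h h3 hx
  have hm := h.m1
  have ho := Nat.odd_iff.1 h.ar.odd
  have hk := h.ar.facts.2.2.1
  have h5 : 5 ≤ k := by rcases h.ar.he with rfl | rfl <;> omega
  obtain ⟨A, b1, b2, b3⟩ := J7 h h5 hT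
  obtain ⟨f, c1, c2⟩ := J8 h.ar a1 a2 b1 b2 b3
  rcases h.ar.he with rfl | rfl
  · exact J8a h.ar hm c1 c2 (J6a h h3 hT) a3 a4
  · obtain rfl := J6b h h3 hT
    exact J9b h h3 hx hT c1 c2

/-- the isomorphism `C(t) ≅ 2 × L` -/
theorem cent_iso {t : G} {L : Subgroup G} (ht : orderOf t = 2) (hL : L ≤ 𝐂[t]) (htL : t ∉ L)
    (hC : ∀ g ∈ 𝐂[t], g ∈ L ∨ g * t ∈ L) :
    Nonempty (centralizer ({t} : Set G) ≃* Multiplicative (ZMod 2) × L) := by
  have tt := sq_of_two ht
  have hz : zpowers t ≤ 𝐂[t] := zpowers_le.2 (mem_cent1_self t)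
  let f : zpowers t × L →* centralizer ({t} : Set G) :=
    MonoidHom.noncommCoprod (inclusion hz) (inclusion hL) fun a b => Subtype.ext (by
      obtain ⟨_, i, rfl⟩ := a
      exact (Commute.zpow_right (mem_cent1_iff.1 (hL b.2)) i).symm)
  have hf : ∀ x : zpowers t × L, (f x : G) = x.1 * x.2 := fun _ => rfl
  have hb : Function.Bijective f := by
    refine ⟨(injective_iff_map_eq_one f).2 fun x hx => ?_, fun g => ?_⟩
    · have e : (x.1 : G) * x.2 = 1 := by rw [← hf, hx]; rfl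
      have e1 : (x.1 : G) ∈ L := by rw [eq_inv_of_mul_eq_one_left e]; exact inv_mem x.2.2
      have e2 : (x.1 : G) = 1 := by
        rcases (mem_zpowers_two ht).1 x.1.2 with a | a
        · exact a
        · exact absurd (a ▸ e1) htL
      rw [e2, one_mul] at e
      exact Prod.ext (Subtype.ext e2) (Subtype.ext e)
    · rcases hC g g.2 with a | a
      · exact ⟨(1, ⟨g, a⟩), Subtype.ext (by rw [hf]; simp)⟩
      · refine ⟨(⟨t, mem_zpowers t⟩, ⟨g * t, a⟩), Subtype.ext ?_⟩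
        rw [hf]
        show t * (g * t) = g
        rw [mem_cent1_iff.1 g.2, ← mul_assoc, tt, one_mul]
  exact ⟨(MulEquiv.ofBijective f hb).symm.trans (MulEquiv.prodCongr
    (mulEquivOfPrimeCardEq (p := 2) (by rw [Nat.card_zpowers, ht]) (by simp)) (MulEquiv.refl L))⟩

theorem main' {t : G} {L : Subgroup G} {F : Type} [Field F] [Fintype F] (h : Ent t L F) :
    Fintype.card F = 5 := by
  obtain ⟨a1, a2, -⟩ := J2a h
  have a3 := J2b h
  obtain ⟨p, n, m, k, e, ha, hF⟩ := exAr h.q3 h.q8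
  obtain ⟨iso⟩ := h.iso
  by_contra h5
  have hm : 1 < m := by
    have := ha.odd.pos
    have h1 := ha.hq
    have h2 := h.q3
    rw [← hF] at h1
    rcases ha.he with rfl | rfl <;> omega
  refine JR.false (G := G) (p := p) (n := n) (m := m) (k := k) (e := e)
    ⟨h.simple, h.ag, h.ih, ha, hm, ⟨t, h.t2⟩, fun a b c d => (a1 a c).symm.trans (a1 b d), fun u hu => ?_⟩
  obtain ⟨g, rfl⟩ := isConj_iff.1 (a1 u hu)
  refine J0 ha hF (L := cj g L) hu ?_ ?_ ?_ (((MulAut.conj g).subgroupMap L).symm.trans iso)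
  · rw [← cj_cent1]; exact cj_mono g h.nrm.le
  · simpa [mem_cj, mul_assoc] using a2
  · intro x hx
    have := a3 (g⁻¹ * x * g) (by rw [← cj_cent1] at hx; exact mem_cj.1 hx)
    simpa [mem_cj, mul_assoc] using this

theorem main {t : G} {L : Subgroup G} {F : Type} [Field F] [Fintype F] (h : Ent t L F) :
    Nonempty (centralizer ({t} : Set G) ≃* Z2A5) := by
  obtain ⟨e1⟩ := cent_iso h.t2 h.nrm.le (J2a h).2.1 (J2b h)
  obtain ⟨e2⟩ := h.iso
  obtain ⟨e3⟩ := iso_A5 (main' h)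
  exact ⟨e1.trans (MulEquiv.prodCongr (MulEquiv.refl _) (e2.trans e3))⟩

end Cfsg.Agent.JR
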