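import Cfsg.Agent.JR.B1

/-! Janko-Ree case: basic consequences of the standing hypothesis. -/

set_option autoImplicit false
set_option linter.unusedSectionVars false

namespace Cfsg.Agent.JR

open Subgroup Cfsg.Agent.FT

universe u
variable {G : Type u} [Group G] [Finite G] {p n m k : ℕ} {e : ℤ}

theorem AG.comm (h : AG G) {r : ℕ} (hr : r.Prime) {Q : Subgroup G} (hQ : IsPGroup r Q) :
    ∀ x ∈ Q, ∀ y ∈ Q, x * y = y * x := by
  haveI := Fact.mk hr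
  obtain ⟨P, hP⟩ := hQ.exists_le_sylow
  exact fun x hx y hy => mem_cent_iff.1 (comm_iff_le_cent.1 (h r hr P) (hP hy)) x (hP hx)
theorem AG.le_cent (h : AG G) {r : ℕ} (hr : r.Prime) {Q : Subgroup G} (hQ : IsPGroup r Q) : Q ≤ 𝐂(Q) :=
  fun y hy => mem_cent_iff.2 fun x hx => h.comm hr hQ x hx y hy
theorem AG.syl (h : AG G) {r : ℕ} (hr : r.Prime) {Y Q X : Subgroup G} (hY : IsPGroup r Y)
    (hX : 𝐂(Y) ≤ X) (hQ : Syl r Q X) : Syl r Q ⊤ := by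
  haveI := Fact.mk hr
  obtain ⟨P, hP, h1⟩ := exists_syl_ge hY le_top
  have h2 : P ≤ X := ((h.le_cent hr hP.isPGroup).trans (cent_anti h1)).trans hX
  exact hQ.trans le_top fun h3 => hP.not_dvd (h3.trans (relIndex_dvd_of_le_left _ h2))
/-- the `r`-part of `|G|` is seen in the centraliser of any `r`-subgroup -/
theorem AG.pow_dvd (h : AG G) {r a : ℕ} (hr : r.Prime) {Y : Subgroup G} (hY : IsPGroup r Y)
    (hd : r ^ a ∣ Nat.card G) : r ^ a ∣ ♯𝐂(Y) := by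
  haveI := Fact.mk hr
  obtain ⟨P, hP, h1⟩ := exists_syl_ge hY le_top
  have h2 : P ≤ 𝐂(Y) := (h.le_cent hr hP.isPGroup).trans (cent_anti h1)
  refine Dvd.dvd.trans ?_ (card_dvd_of_le' h2)
  have h3 := card_mul_relIndex hP.le
  rw [card_top] at h3
  rw [← h3] at hd
  exact (Nat.Coprime.pow_left a ((hr.coprime_iff_not_dvd).2 hP.not_dvd)).dvd_of_dvd_mul_right hd
/-- a `2`-subgroup of `X` through the involution `t` lies in `X ∩ C(t)` -/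
theorem AG.two_dvd (h : AG G) {a : ℕ} {X Y : Subgroup G} (hY : IsPGroup 2 Y) (hX : Y ≤ X)
    (hd : 2 ^ a ∣ ♯X) : 2 ^ a ∣ ♯(𝐂(Y) ⊓ X : Subgroup G) := by
  obtain ⟨P, hP, h1⟩ := exists_syl_ge hY hX
  have h2 : P ≤ 𝐂(Y) := (h.le_cent Nat.prime_two hP.isPGroup).trans (cent_anti h1)
  refine Dvd.dvd.trans ?_ (card_dvd_of_le' (le_inf h2 hP.le))
  rw [← card_mul_relIndex hP.le] at hd
  exact (Nat.Coprime.pow_left a ((Nat.prime_two.coprime_iff_not_dvd).2 hP.not_dvd)).dvd_of_dvd_mul_right hd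
theorem two_zpowers {t : G} (h : orderOf t = 2) : IsPGroup 2 (zpowers t) :=
  isPGroup_of_card_prime (by rw [Nat.card_zpowers, h])

theorem JR.oddk (h : JR G p n m k e) : Odd k := h.ar.facts.1
theorem JR.oddq (h : JR G p n m k e) : Odd (p ^ n) := h.ar.facts.2.1.pow
theorem JR.oddR (h : JR G p n m k e) {t u : G} (hf : FG t u) : Odd ♯(Rw t u) := by
  rw [((h.cf t hf.t2).rcyc u hf).2]; exact h.ar.odd
theorem JR.cardR (h : JR G p n m k e) {t u : G} (hf : FG t u) : ♯(Rw t u) = m :=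
  ((h.cf t hf.t2).rcyc u hf).2
theorem JR.cycR (h : JR G p n m k e) {t u : G} (hf : FG t u) : IsCyclic (Rw t u) :=
  ((h.cf t hf.t2).rcyc u hf).1
theorem JR.sq (h : JR G p n m k e) (x : G) (hx : x ^ 4 = 1) : x ^ 2 = 1 := by
  by_contra h1
  have h2 : orderOf (x ^ 2) = 2 := orderOf_eq_prime (by rw [← pow_mul, hx]) h1
  exact h1 ((h.cf _ h2).sq x (cent1_le_cent1_pow x 2 (mem_cent1_self x)) hx)
theorem JR.n16 (h : JR G p n m k e) : ¬ 16 ∣ Nat.card G := fun h1 => by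
  obtain ⟨t, ht⟩ := h.ex
  have := h.ag.pow_dvd (a := 4) Nat.prime_two (two_zpowers ht) h1
  rw [cent_zpowers, (h.cf t ht).card] at this
  have h2 := (h.oddq.mul h.ar.odd).mul h.oddk
  rw [Nat.odd_iff] at h2
  rw [show 8 * p ^ n * m * k = 8 * (p ^ n * m * k) by ring] at this
  omega

theorem JR.cj2 (h : JR G p n m k e) {t u : G} (ht : orderOf t = 2) (hu : orderOf u = 2) :
    ∃ g : G, g * t * g⁻¹ = u := isConj_iff.1 (h.conj t u ht hu)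
/-- four-groups are conjugate -/
theorem JR.cjW0 (h : JR G p n m k e) {t u t' u' : G} (hf : FG t u) (hf' : FG t' u') :
    ∃ g : G, g * t * g⁻¹ = t' ∧ (g * u * g⁻¹ = u' ∨ g * u * g⁻¹ = t' * u') := by
  obtain ⟨g, rfl⟩ := h.cj2 hf.t2 hf'.t2
  obtain ⟨a, ha, h1⟩ := (h.cf _ hf'.t2).cjR _ _ (hf.cj g) hf'
  refine ⟨a * g, ?_, by simpa only [mul_inv_rev, mul_assoc] using h1⟩
  have := mem_cent1_iff.1 ha
  rw [mul_inv_rev, show a * g * t * (g⁻¹ * a⁻¹) = a * (g * t * g⁻¹) * a⁻¹ by group, this, mul_inv_cancel_right]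

theorem ST.cj {t u s τ : G} (h : ST t u s τ) (g : G) :
    ST (g * t * g⁻¹) (g * u * g⁻¹) (g * s * g⁻¹) (g * τ * g⁻¹) := by
  refine ⟨h.fg.cj g, two_conj h.s2 g, by simp only [conj_mul, h.st], by simp only [conj_mul, h.su],
    fun e => h.sW ?_, fun r hr => ?_, fun x hx hy => ?_, by rw [orderOf_cj, h.t3],
    by simp only [conj_mul, h.ts], by simp only [conj_mul, conj_inv, h.c1],
    by simp only [conj_mul, conj_inv, h.c2]⟩
  · rwa [← cj_V4, conj_mem_cj_iff] at e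
  · rw [← cj_Rw, mem_cj] at hr
    have := h.inv _ hr
    calc _ = g * (s * (g⁻¹ * r * g) * s⁻¹) * g⁻¹ := by group
      _ = _ := by rw [this]; group
  · obtain ⟨r, hr, w, hw, h1⟩ := h.cen _ (cj_mem_cent1.1 hx) (cj_mem_cent1.1 hy)
    refine ⟨g * r * g⁻¹, by rw [← cj_Rw]; exact conj_mem_cj hr, g * w * g⁻¹,
      by rw [← cj_V4]; exact conj_mem_cj hw, ?_⟩
    simp only [conj_mul]
    rcases h1 with h1 | h1 <;> rw [← h1] <;> simp [mul_assoc]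
theorem ST.c3 {t u s τ : G} (h : ST t u s τ) : τ * (t * u) * τ⁻¹ = t := by
  rw [← conj_mul, h.c1, h.c2, h.fg.comm, ← mul_assoc, h.fg.uu, one_mul]
theorem ST.mul {t u s τ : G} (h : ST t u s τ) : ST t (t * u) s τ⁻¹ := by
  refine ⟨h.fg.mul, h.s2, h.st, by rw [← mul_assoc, h.st, mul_assoc, h.su, mul_assoc], V4_mul t u ▸ h.sW,
    Rw_mul t u ▸ h.inv, fun g hg h1 => ?_, by rw [orderOf_inv, h.t3], (Commute.inv_left h.ts :), ?_, ?_⟩
  · rw [Rw_mul, V4_mul]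
    refine h.cen g hg ?_
    have : g ∈ 𝐂(V4 t (t * u)) := by rw [cent_V4]; exact ⟨hg, h1⟩
    rw [V4_mul, cent_V4] at this; exact this.2
  · conv_lhs => rw [← h.c3]
    group
  · rw [← mul_assoc t t, h.fg.tt, ← h.c2]; group
theorem ST.tN {t u s τ : G} (h : ST t u s τ) : τ ∈ 𝐍(V4 t u) := by
  rw [← cj_eq_iff_mem_normalizer, cj_V4, h.c1, h.c2, h.fg.comm, V4_mul, V4_symm]
theorem ST.tC {t u s τ : G} (h : ST t u s τ) : τ ∉ 𝐂(V4 t u) := fun e => by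
  have := mem_cent_iff.1 e t (left_mem_V4 _ _)
  have h1 := h.c1
  rw [← this, mul_inv_cancel_right] at h1
  exact h.fg.ne h1
theorem ST.sC {t u s τ : G} (h : ST t u s τ) : s ∈ 𝐂(V4 t u) := by
  rw [cent_V4]; exact ⟨mem_cent1_iff.2 h.st, mem_cent1_iff.2 h.su⟩

theorem JR.st0 (h : JR G p n m k e) : ∃ t u s τ : G, ST t u s τ := by
  obtain ⟨s, hs⟩ := h.ex
  obtain ⟨u, v, τ, hf, h1, h2, h3, h4, h5, h6, h7⟩ := (h.cf s hs).a4
  obtain ⟨s0, a1, a2, a3, a4, a5, a6⟩ := (h.cf u hf.t2).rcen v hf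
  have hR := comm_iff_le_cent.1 (comm_of_isCyclic (h.cycR hf))
  have hW : ∀ w ∈ V4 u v, ∀ r ∈ Rw u v, r * w = w * r := fun w hw r hr =>
    (mem_cent_iff.1 (Rw_le_cent u v hr) w hw).symm
  obtain ⟨r, hr, w, hw, h8⟩ := a6 s (mem_cent1_comm.1 h1) (mem_cent1_comm.1 h2)
  have h9 : s = r * w * s0 := by
    refine h8.resolve_left fun e => h4 ?_
    have : r * r = 1 := by
      have := sq_of_two hs
      rwa [e, mul_assoc, ← mul_assoc w, ← hW w hw r hr, mul_assoc, V4_sq hf hw, mul_one] at this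
    rwa [e, eq_one_of_odd (odd_orderOf (h.oddR hf) hr) this, one_mul]
  refine ⟨u, v, s, τ, hf, hs, (mem_cent1_iff.1 h1).symm, (mem_cent1_iff.1 h2).symm, h4, fun x hx => ?_,
    fun g g1 g2 => ?_, h5, mem_cent1_iff.1 h3, h6, h7⟩
  · have e1 := a5 x hx
    have e2 := hW w hw _ (inv_mem hx)
    have e3 := mem_cent_iff.1 (hR hr) _ (inv_mem hx)
    calc _ = r * (w * (s0 * x * s0⁻¹) * w⁻¹) * r⁻¹ := by rw [h9]; group
      _ = _ := by rw [e1, ← e2, mul_inv_cancel_right, ← e3, mul_inv_cancel_right]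
  · obtain ⟨r', hr', w', hw', e⟩ := a6 g g1 g2
    rcases e with e | e
    · exact ⟨r', hr', w', hw', Or.inl e⟩
    · refine ⟨r' * r⁻¹, mul_mem hr' (inv_mem hr), w' * w⁻¹, mul_mem hw' (inv_mem hw), Or.inr ?_⟩
      have e1 := hW _ (mul_mem hw' (inv_mem hw)) r hr
      rw [e, h9]
      calc _ = r' * r⁻¹ * (r * (w' * w⁻¹)) * w * s0 := by group
        _ = _ := by rw [e1]; group
theorem JR.st (h : JR G p n m k e) {t u : G} (hf : FG t u) : ∃ s τ, ST t u s τ := by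
  obtain ⟨t0, u0, s, τ, hs⟩ := h.st0
  obtain ⟨g, rfl, h1⟩ := h.cjW0 hs.fg hf
  rcases h1 with rfl | h1
  · exact ⟨_, _, hs.cj g⟩
  · have := (hs.cj g).mul
    rw [h1, ← mul_assoc, hf.tt, one_mul] at this
    exact ⟨_, _, this⟩
theorem JR.cardCW (h : JR G p n m k e) {t u : G} (hf : FG t u) : ♯𝐂(V4 t u) = 8 * m := by
  obtain ⟨s, τ, hs⟩ := h.st hf
  have hn : V4 t u ≤ 𝐍(Rw t u) := (cent_symm (Rw_le_cent t u)).trans (cent_le_norm _)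
  have h1 : ♯(Rw t u ⊔ V4 t u : Subgroup G) = m * 4 := by
    rw [card_sup_of_inf_eq_bot hn, h.cardR hf, card_V4 hf]
    refine inf_eq_bot_of_coprime' ?_
    rw [card_V4 hf]; exact (Nat.coprime_two_right.2 (h.oddR hf)).pow_right 2
  rw [card_two (sup_le (Rw_le_cent t u) (V4_comm hf)) hs.sC, h1]
  · ring
  · intro e
    obtain ⟨r, hr, w, hw, e1⟩ := (mem_sup_of_le_normalizer' hn).1 e
    have e2 := (mem_cent_iff.1 (Rw_le_cent t u hr) w hw).symm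
    have : r * r = 1 := by
      have := sq_of_two hs.s2
      rwa [← e1, mul_assoc, ← mul_assoc w, ← e2, mul_assoc, V4_sq hf hw, mul_one] at this
    rw [eq_one_of_odd (odd_orderOf (h.oddR hf) hr) this, one_mul] at e1
    exact hs.sW (e1 ▸ hw)
  · intro g hg
    rw [cent_V4] at hg
    obtain ⟨r, hr, w, hw, e⟩ := hs.cen g hg.1 hg.2
    rcases e with rfl | rfl
    · exact Or.inl (mul_mem_sup hr hw)
    · rw [mul_assoc _ s, sq_of_two hs.s2, mul_one]; exact Or.inr (mul_mem_sup hr hw)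
/-- no element of `N(W)` induces a transposition -/
theorem JR.noswap (h : JR G p n m k e) {t u g : G} (hf : FG t u) (hg : g ∈ 𝐍(V4 t u)) (h1 : g ∈ 𝐂[t]) :
    g ∈ 𝐂[u] := by
  have hx : ∃ x ∈ Rw t u, x ≠ 1 := exists_ne_one_of_ne_bot (one_lt_card.1 (by rw [h.cardR hf]; exact h.m1))
  obtain ⟨x, hx, h2⟩ := hx
  exact (h.cf t hf.t2).rnrm u hf x hx h2 g h1 (conj_mem_of_mem_normalizer (Rw_norm hf hg) hx)
theorem JR.nW (h : JR G p n m k e) {t u s τ : G} (hs : ST t u s τ) :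
    ∀ g ∈ 𝐍(V4 t u), g ∈ 𝐂(V4 t u) ∨ g * τ ∈ 𝐂(V4 t u) ∨ g * τ⁻¹ ∈ 𝐂(V4 t u) := by
  intro g hg
  have key : ∀ a ∈ 𝐍(V4 t u), a⁻¹ * t * a = t → a ∈ 𝐂(V4 t u) := fun a ha e => by
    have : a ∈ 𝐂[t] := mem_cent1_iff.2 (by
      calc a * t = a * (a⁻¹ * t * a) := by rw [e]
        _ = _ := by group)
    rw [cent_V4]; exact ⟨this, h.noswap hs.fg ha this⟩
  have h1 := conj_mem_of_mem_normalizer (inv_mem hg) (left_mem_V4 t u)
  rw [inv_inv] at h1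
  rcases (mem_V4 hs.fg).1 h1 with e | e | e | e
  · exact absurd (by simpa [mul_assoc] using congrArg (fun z => g * z * g⁻¹) e) (ne_one_of_two hs.fg.t2)
  · exact Or.inl (key g hg e)
  · refine Or.inr (Or.inl (key _ (mul_mem hg hs.tN) ?_))
    rw [mul_inv_rev, show τ⁻¹ * g⁻¹ * t * (g * τ) = τ⁻¹ * (g⁻¹ * t * g) * τ by group, e, ← hs.c1]; group
  · refine Or.inr (Or.inr (key _ (mul_mem hg (inv_mem hs.tN)) ?_))
    rw [mul_inv_rev, show τ⁻¹⁻¹ * g⁻¹ * t * (g * τ⁻¹) = τ * (g⁻¹ * t * g) * τ⁻¹ by group, e, hs.c3]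
theorem JR.cardW (h : JR G p n m k e) {t u : G} (hf : FG t u) :
    𝐂(V4 t u) = 𝐂[t] ⊓ 𝐂[u] ∧ ♯𝐂(V4 t u) = 8 * m ∧ ♯𝐍(V4 t u) = 24 * m := by
  refine ⟨cent_V4 t u, h.cardCW hf, ?_⟩
  obtain ⟨s, τ, hs⟩ := h.st hf
  have hn : zpowers τ ≤ 𝐍(𝐂(V4 t u)) := le_normalizer_centralizer (zpowers_le_normalizer hs.tN)
  have : 𝐍(V4 t u) = 𝐂(V4 t u) ⊔ zpowers τ := by
    refine le_antisymm (fun g hg => ?_) (sup_le (cent_le_norm _) (zpowers_le_normalizer hs.tN))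
    have ht : τ ∈ 𝐂(V4 t u) ⊔ zpowers τ := mem_sup_right (mem_zpowers τ)
    rcases h.nW hs g hg with e | e | e
    · exact mem_sup_left e
    · exact (mul_mem_cancel_right ht).1 (mem_sup_left e)
    · exact (mul_mem_cancel_right (inv_mem ht)).1 (mem_sup_left e)
  rw [this, card_sup_of_inf_eq_bot hn, h.cardCW hf, Nat.card_zpowers, hs.t3]
  · ring
  · rw [inf_comm]
    exact (inf_eq_bot_or_le_of_card_prime (by rw [Nat.card_zpowers, hs.t3]; exact Nat.prime_three) _).resolve_right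
      fun e => hs.tC (e (mem_zpowers τ))
theorem JR.cenR (h : JR G p n m k e) {t u x : G} (hf : FG t u) (hx : x ∈ Rw t u) (h1 : x ≠ 1) :
    ∀ g ∈ 𝐂[x], g ∈ 𝐂[t] ∨ g ∈ 𝐂[u] ∨ g ∈ 𝐂[t * u] → ∃ r ∈ Rw t u, ∃ w ∈ V4 t u, g = r * w := by
  intro g hg h2
  have hgx : g * x * g⁻¹ = x := by rw [mem_cent1_iff.1 hg, mul_inv_cancel_right]
  have h3 : g ∈ 𝐂(V4 t u) := by
    rcases h2 with h2 | h2 | h2
    · rw [cent_V4]; exact ⟨h2, (h.cf t hf.t2).rnrm u hf x hx h1 g h2 (hgx.symm ▸ hx)⟩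
    · rw [cent_V4]
      exact ⟨(h.cf u hf.u2).rnrm t hf.symm x (Rw_symm t u ▸ hx) h1 g h2 (by rw [hgx, Rw_symm]; exact hx), h2⟩
    · have e : x ∈ Rw (t * u) t := by rw [Rw_symm, Rw_mul]; exact hx
      rw [← V4_mul, cent_V4]
      exact ⟨(h.cf _ hf.mul.u2).rnrm t hf.mul.symm x e h1 g h2 (hgx.symm ▸ e), h2⟩
  obtain ⟨s, τ, hs⟩ := h.st hf
  rw [cent_V4] at h3
  obtain ⟨r, hr, w, hw, e⟩ := hs.cen g h3.1 h3.2
  refine ⟨r, hr, w, hw, e.resolve_right fun e => h1 ?_⟩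
  have hR := comm_iff_le_cent.1 (comm_of_isCyclic (h.cycR hf))
  have a1 : r ∈ 𝐂[x] := cent_le_cent1 hx (hR hr)
  have a2 : w ∈ 𝐂[x] := cent_le_cent1 hx (cent_symm (Rw_le_cent t u) hw)
  rw [e, (𝐂[x]).mul_mem_cancel_left (mul_mem a1 a2)] at hg
  have := hs.inv x hx
  rw [mem_cent1_iff.1 hg, mul_inv_cancel_right] at this
  exact eq_one_of_odd (odd_orderOf (h.oddR hf) hx) (mul_eq_one_iff_eq_inv.2 this)
theorem JR.cjW (h : JR G p n m k e) {t u t' u' : G} (hf : FG t u) (hf' : FG t' u') :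
    ∃ g : G, g * t * g⁻¹ = t' ∧ (g * u * g⁻¹ = u' ∨ g * u * g⁻¹ = t' * u') ∧
      cj g (V4 t u) = V4 t' u' ∧ cj g (Rw t u) = Rw t' u' := by
  obtain ⟨g, h1, h2⟩ := h.cjW0 hf hf'
  refine ⟨g, h1, h2, ?_, ?_⟩
  · rw [cj_V4, h1]; rcases h2 with h2 | h2 <;> rw [h2]; exact V4_mul _ _
  · rw [cj_Rw, h1]; rcases h2 with h2 | h2 <;> rw [h2]; exact Rw_mul _ _
theorem JR.cjT (h : JR G p n m k e) {t w t' w' : G} {T T' : Subgroup G} (h1 : TT k t w T)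
    (h2 : TT k t' w' T') : ∃ g : G, g * t * g⁻¹ = t' ∧ cj g T = T' := by
  obtain ⟨g, rfl⟩ := h.cj2 h1.fg.t2 h2.fg.t2
  obtain ⟨a, ha, h3⟩ := (h.cf _ h2.fg.t2).cjT _ _ _ _ (h1.cj g) h2
  refine ⟨a * g, ?_, by rw [cj_mul, h3]⟩
  rw [mul_inv_rev, show a * g * t * (g⁻¹ * a⁻¹) = a * (g * t * g⁻¹) * a⁻¹ by group, mem_cent1_iff.1 ha,
    mul_inv_cancel_right]
theorem JR.cjP (h : JR G p n m k e) {t t' : G} {P P' : Subgroup G} (h1 : PT p (p ^ n) t P)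
    (h2 : PT p (p ^ n) t' P') : ∃ g : G, g * t * g⁻¹ = t' ∧ cj g P = P' := by
  obtain ⟨g, rfl⟩ := h.cj2 h1.t2 h2.t2
  obtain ⟨a, ha, h3⟩ := (h.cf _ h2.t2).cjP _ _ (h1.cj g) h2
  refine ⟨a * g, ?_, by rw [cj_mul, h3]⟩
  rw [mul_inv_rev, show a * g * t * (g⁻¹ * a⁻¹) = a * (g * t * g⁻¹) * a⁻¹ by group, mem_cent1_iff.1 ha,
    mul_inv_cancel_right]
theorem JR.n4T (h : JR G p n m k e) {t w y : G} {T : Subgroup G} (h1 : TT k t w T) (hy : y ∈ T)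
    (h2 : y ≠ 1) : ¬ 4 ∣ ♯𝐂[y] := fun h3 => by
  have := h.ag.two_dvd (a := 2) (two_zpowers h1.fg.t2) (zpowers_le.2 (mem_cent1_comm.1 (h1.cen hy))) h3
  rw [cent_zpowers, h1.card2 h.oddk hy h2] at this
  have := Nat.odd_iff.1 h.oddk
  omega
theorem PT.card2 {q : ℕ} (hq : Odd q) {t y : G} {P : Subgroup G} (h1 : PT p q t P) (hy : y ∈ P) (h2 : y ≠ 1) :
    ♯(𝐂[t] ⊓ 𝐂[y] : Subgroup G) = 2 * q := by
  rw [← h1.card]
  exact card_two (le_inf h1.cen fun x hx => mem_cent1_iff.2 (h1.comm x hx y hy))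
    ⟨mem_cent1_self _, mem_cent1_comm.1 (h1.cen hy)⟩ (not_mem_of_odd (h1.card ▸ hq) h1.t2)
    fun g hg => h1.cent y hy h2 g hg.1 (mem_cent1_iff.1 hg.2)
theorem JR.n4P (h : JR G p n m k e) {t y : G} {P : Subgroup G} (h1 : PT p (p ^ n) t P) (hy : y ∈ P)
    (h2 : y ≠ 1) : ¬ 4 ∣ ♯𝐂[y] := fun h3 => by
  have := h.ag.two_dvd (a := 2) (two_zpowers h1.t2) (zpowers_le.2 (mem_cent1_comm.1 (h1.cen hy))) h3
  rw [cent_zpowers, h1.card2 h.oddq hy h2] at this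
  have := Nat.odd_iff.1 h.oddq
  omega
theorem JR.typ (h : JR G p n m k e) {t x : G} (ht : orderOf t = 2) (hx : x ∈ 𝐂[t]) {r : ℕ} (hr : r.Prime)
    (ho : orderOf x = r) (h2 : r ≠ 2) : (r ∣ m ∧ ∃ u, FG t u ∧ x ∈ Rw t u) ∨
      (r ∣ k ∧ ∃ w T, TT k t w T ∧ x ∈ T) ∨ (r = p ∧ ∃ P, PT p (p ^ n) t P ∧ x ∈ P) := by
  have h1 : x ≠ 1 := by rintro rfl; exact hr.one_lt.ne (by simpa using ho)
  rcases (h.cf t ht).tri x hx h1 (ho ▸ hr.odd_of_ne_two h2) with ⟨u, a, b⟩ | ⟨w, T, a, b⟩ | ⟨P, a, b⟩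
  · exact Or.inl ⟨ho ▸ h.cardR a ▸ orderOf_dvd_card' b, u, a, b⟩
  · exact Or.inr (Or.inl ⟨ho ▸ a.card ▸ orderOf_dvd_card' b, w, T, a, b⟩)
  · exact Or.inr (Or.inr ⟨(Nat.prime_dvd_prime_iff_eq hr h.ar.pp).1
      (ho ▸ orderOf_dvd_of_pow_eq_one (a.exp x b)), P, a, b⟩)

end Cfsg.Agent.JR
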