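import Cfsg.Agent.JR.J0a

/-! Janko-Ree case, piece J0: the local structure of `⟨t⟩ × L₂(q)`. -/

set_option autoImplicit false
set_option linter.unusedSectionVars false

namespace Cfsg.Agent.JR

open Subgroup Cfsg.Agent.FT Cfsg.Agent.H1 Cfsg.Agent.MC Cfsg.Agent.MC.PF

universe u
variable {G : Type u} [Group G] [Finite G] {p n m k : ℕ} {e : ℤ}

theorem exAr {F : Type} [Field F] [Fintype F] (h3 : 3 < Fintype.card F)
    (h8 : Fintype.card F % 8 = 3 ∨ Fintype.card F % 8 = 5) :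
    ∃ (p n m k : ℕ) (e : ℤ), Ar p n m k e ∧ Fintype.card F = p ^ n := by
  obtain ⟨p, n, hp, h⟩ : ∃ p n : ℕ, p.Prime ∧ Fintype.card F = p ^ n :=
    (FiniteField.card' F).imp fun _ ⟨_, n, h⟩ => ⟨n, h⟩
  rw [h] at h3 h8
  rcases h8 with h8 | h8
  · exact ⟨p, n, (p ^ n + 1) / 4, (p ^ n - 1) / 2, -1, ⟨hp, .inr rfl, by omega, by omega,
      Nat.odd_iff.2 (by omega), h3⟩, h⟩
  · exact ⟨p, n, (p ^ n - 1) / 4, (p ^ n + 1) / 2, 1, ⟨hp, .inl rfl, by omega, by omega,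
      Nat.odd_iff.2 (by omega), h3⟩, h⟩

/-- `C(t) = ⟨t⟩ × φ(Λ)` -/
structure J0S {Λ : Type} [Group Λ] (t : G) (φ : Λ →* G) : Prop where
  t2 : orderOf t = 2
  inj : Function.Injective φ
  cm : ∀ a, φ a * t = t * φ a
  nt : ∀ a, φ a ≠ t
  dec : ∀ g ∈ 𝐂[t], ∃ a, g = φ a ∨ g = φ a * t

namespace J0S

variable {Λ : Type} [Group Λ] [Finite Λ] {t g h u : G} {φ : Λ →* G} {a b j : Λ} {X : Subgroup Λ} (s : J0S t φ)
include s

theorem cen (a : Λ) : φ a ∈ 𝐂[t] := mem_cent1_iff.2 (s.cm a)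
theorem le (X : Subgroup Λ) : X.map φ ≤ 𝐂[t] := by rintro _ ⟨a, -, rfl⟩; exact s.cen a
theorem conj (ha : g = φ a ∨ g = φ a * t) (y : Λ) : g * φ y * g⁻¹ = φ (a * y * a⁻¹) := by
  rcases ha with rfl | rfl
  · rw [map_mul, map_mul, map_inv]
  · rw [map_mul, map_mul, map_inv, mul_assoc (φ a), ← s.cm, mul_inv_rev]; group
theorem comm' (ha : g = φ a ∨ g = φ a * t) : g * φ b = φ b * g ↔ a * b = b * a := by
  rw [← mul_inv_eq_iff_eq_mul, s.conj ha, s.inj.eq_iff, mul_inv_eq_iff_eq_mul]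
theorem comm (hg : g ∈ 𝐂[t]) (hb : h = φ b ∨ h = φ b * t) : g * h = h * g ↔ g * φ b = φ b * g := by
  rcases hb with rfl | rfl
  · rfl
  · rw [mul_assoc, ← mem_cent1_iff.1 hg, ← mul_assoc, ← mul_assoc, mul_left_inj]
theorem mem (ha : g = φ a ∨ g = φ a * t) (h : a ∈ X) : g ∈ X.map φ ∨ g * t ∈ X.map φ :=
  ha.imp (fun e : g = φ a => e ▸ mem_map_of_mem φ h) fun e => by
    rw [e, mul_assoc, sq_of_two s.t2, mul_one]; exact mem_map_of_mem φ h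
theorem sq (ha : g = φ a ∨ g = φ a * t) : g * g = φ (a * a) := by
  rcases ha with rfl | rfl
  · rw [map_mul]
  · rw [map_mul, mul_assoc, ← mul_assoc t, ← s.cm, mul_assoc, sq_of_two s.t2, mul_one]
theorem mulr (ha : g = φ a ∨ g = φ a * t) (b : Λ) : g * φ b = φ (a * b) ∨ g * φ b = φ (a * b) * t :=
  ha.imp (fun e => by rw [e, map_mul]) fun e => by rw [e, map_mul, mul_assoc, ← s.cm, mul_assoc]
theorem ord (a : Λ) : orderOf (φ a) = orderOf a := orderOf_injective φ s.inj a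
theorem odd (hg : g ∈ 𝐂[t]) (ho : Odd (orderOf g)) : ∃ a, φ a = g := by
  obtain ⟨a, h⟩ := s.dec g hg
  exact mem_of_sq_mem' (H := φ.range) ho ⟨_, (s.sq h).symm⟩
theorem fg (h : orderOf j = 2) : FG t (φ j) := ⟨s.t2, (s.ord j).trans h, (s.cm j).symm, (s.nt j).symm⟩
theorem of_fg (h : FG t u) : ∃ j, (u = φ j ∨ u = φ j * t) ∧ orderOf j = 2 := by
  obtain ⟨j, e⟩ := s.dec u (mem_cent1_iff.2 h.comm.symm)
  refine ⟨j, e, two_of_sq (s.inj (by rw [← s.sq e, h.uu, map_one])) fun k => ?_⟩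
  rw [k, map_one, one_mul] at e
  exact e.elim (ne_one_of_two h.u2) h.ne.symm
theorem v4 (e : u = φ j ∨ u = φ j * t) : V4 t u = V4 t (φ j) := by
  rcases e with rfl | rfl
  · rfl
  · rw [s.cm, V4_mul]
theorem rw (e : u = φ j ∨ u = φ j * t) (h1 : Odd ♯X) (h2 : ∀ r ∈ X, r * j = j * r)
    (h3 : ∀ g, g * j = j * g → g * g ∈ X) : Rw t u = X.map φ := by
  rw [Rw_eq_of_V4 (s.v4 e)]
  refine le_antisymm ((closure_le _).2 fun x ⟨x1, x2, x3⟩ => ?_) ?_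
  · obtain ⟨a, rfl⟩ := s.odd (mem_cent1_iff.2 x1) x3
    exact mem_map_of_mem φ (mem_of_sq_mem' (s.ord a ▸ x3) (h3 a ((s.comm' (.inl rfl)).1 x2)))
  · rintro _ ⟨r, hr, rfl⟩
    exact mem_Rw (s.cm r) ((s.comm' (.inl rfl)).2 (h2 r hr)) (s.ord r ▸ odd_orderOf h1 hr)
theorem nrm (ha : g = φ a ∨ g = φ a * t) : g ∈ 𝐍(X.map φ) ↔ a ∈ 𝐍(X) := by
  have k : ∀ y, φ y ∈ X.map φ ↔ y ∈ X := fun y => mem_map_iff_mem s.inj
  refine ⟨fun h => mem_normalizer_iff.2 fun y => ?_, fun h => mem_normalizer_of_conj_mem ?_⟩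
  · rw [← k, ← k, ← s.conj ha]; exact mem_normalizer_iff.1 h _
  · rintro _ ⟨y, hy, rfl⟩
    rw [s.conj ha, k]; exact (mem_normalizer_iff.1 h _).1 hy
theorem card (X : Subgroup Λ) : ♯(X.map φ) = ♯X := card_map_of_injective s.inj
theorem card2 {Y : Subgroup G} (h : ∀ g a, g = φ a ∨ g = φ a * t → (g ∈ Y ↔ a ∈ X)) :
    ♯(Y ⊓ 𝐂[t] : Subgroup G) = 2 * ♯X := by
  rw [← s.card]
  refine card_two (le_inf ?_ (s.le X)) ⟨(h t 1 (.inr (by simp))).2 (one_mem _), mem_cent1_self t⟩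
    (fun ⟨a, _, e⟩ => s.nt a e) fun g hg => ?_
  · rintro _ ⟨a, ha, rfl⟩
    exact (h _ a (.inl rfl)).2 ha
  · obtain ⟨a, e⟩ := s.dec g hg.2
    exact s.mem e ((h g a e).1 hg.1)

end J0S

section
variable {F : Type} [Field F] [Fintype F] (ha : Ar p n m k e) (hF : Fintype.card F = p ^ n) {t : G}
  {φ : L2 F →* G} (s : J0S t φ)
include ha hF s

theorem j0_TT {x : L2 F} (h1 : x * x ≠ 1) (h2 : (orderOf x).Coprime (Fintype.card F)) (h3 : ♯𝐂[x] = k) :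
    ∃ w, TT k t w ((𝐂[x]).map φ) := by
  obtain ⟨c1, -, w, w1, w2, -⟩ := F3 h1 h2
  have k1 : ∀ y ∈ 𝐂[x], y ≠ 1 → y * y ≠ 1 := fun y hy y1 e =>
    y1 (eq_one_of_odd (odd_orderOf (h3 ▸ ha.facts.1) hy) e)
  have k2 : ∀ y ∈ 𝐂[x], y ≠ 1 → ∀ b, b * y = y * b → b ∈ 𝐂[x] := fun y hy y1 b e =>
    mem_cent1_iff.2 (F1 (k1 y hy y1) e (mem_cent1_iff.1 hy).symm)
  refine ⟨φ w, s.fg (two_of_sq w1 fun e => h1 ?_), isCyclic_map c1 φ, (s.card _).trans h3, s.le _,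
    ?_, ?_, ?_⟩
  · simpa [e, eq_inv_iff_mul_eq_one] using w2 x rfl
  · rintro _ ⟨y, hy, rfl⟩
    rw [s.conj (.inl rfl), w2 y (mem_cent1_iff.1 hy), map_inv]
  · rintro _ ⟨y, hy, rfl⟩ y1 g hg e
    obtain ⟨b, hb⟩ := s.dec g hg
    exact s.mem hb (k2 y hy (fun e => y1 (e ▸ map_one φ)) b ((s.comm' hb).1 e))
  · rintro _ ⟨y, hy, rfl⟩ y1 g hg e
    obtain ⟨b, hb⟩ := s.dec g hg
    have y0 : y ≠ 1 := fun e => y1 (e ▸ map_one φ)
    rw [s.conj hb, mem_map_iff_mem s.inj] at e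
    obtain ⟨-, -, v, v1, v2, v3⟩ := F3 (k1 y hy y0) (Nat.Coprime.coprime_dvd_left
      (h3 ▸ orderOf_dvd_card' hy) (hF ▸ ha.facts.2.2.2.2.2.1.symm.pow_right n))
    rcases v3 b (mem_cent1_iff.2 (mem_cent_iff.1 (comm_iff_le_cent.1 (comm_of_isCyclic c1) hy) _ e))
      with j | j
    · exact (s.mem hb (k2 y hy y0 b j)).imp id .inl
    have j1 : b * w ∈ 𝐂[x] := k2 y hy y0 _ (by
      have a1 := mul_inv_eq_iff_eq_mul.1 (v2 y rfl)
      have a2 := mul_inv_eq_iff_eq_mul.1 (w2 y (mem_cent1_iff.1 hy))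
      rw [mul_assoc, a1, ← mul_assoc, ← mul_assoc, mul_left_inj] at j
      rw [mul_assoc, a2, ← mul_assoc, j, mul_assoc])
    refine .inr (.inr ((s.mem (s.mulr hb w) j1).imp id fun j => ?_))
    rwa [mul_assoc, s.cm, ← mul_assoc] at j
theorem j0_PT [Fact p.Prime] (Q : Sylow p (L2 F)) : PT p (p ^ n) t ((Q : Subgroup (L2 F)).map φ) := by
  obtain ⟨h1, h2, h3, h4, -⟩ := j0_P ha hF Q
  refine ⟨s.t2, (s.card _).trans h1, ?_, ?_, s.le _, ?_, ?_, ?_⟩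
  · rintro _ ⟨x, hx, rfl⟩ _ ⟨y, hy, rfl⟩
    by_cases y1 : y = 1
    · simp [y1]
    exact (s.comm' (.inl rfl)).2 (mem_cent1_iff.1 ((h3 y hy y1).ge hx))
  · rintro _ ⟨x, hx, rfl⟩
    rw [← map_pow, h2 x hx, map_one]
  · rintro _ ⟨y, hy, rfl⟩ y1 g hg e
    obtain ⟨b, hb⟩ := s.dec g hg
    exact s.mem hb ((h3 y hy fun e => y1 (e ▸ map_one φ)).le (mem_cent1_iff.2 ((s.comm' hb).1 e)))
  · rintro _ ⟨y, hy, rfl⟩ y1 g hg e
    obtain ⟨b, hb⟩ := s.dec g hg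
    have y0 : y ≠ 1 := fun e => y1 (e ▸ map_one φ)
    rw [s.conj hb, mem_map_iff_mem s.inj] at e
    rw [s.nrm hb, ← cj_eq_iff_mem_normalizer]
    exact (congrArg _ (h3 y hy y0).symm).trans ((cj_cent1 b y).trans (h3 _ e (by simpa using y0)))
  · rw [s.card2 fun g a h => s.nrm h, h4]
theorem j0_C : ♯𝐂[t] = 8 * p ^ n * m * k := by
  have := s.card2 (X := ⊤) (Y := ⊤) fun _ _ _ => by simp
  rw [top_inf_eq, card_top, j0_card ha hF] at this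
  rw [this]; ring
theorem j0_syl {P : Subgroup G} (h : PT p (p ^ n) t P) : Syl p P 𝐂[t] := by
  haveI := Fact.mk ha.pp
  refine ⟨h.cen, isPGroup_of_card h.card, fun k => ?_⟩
  have c := H2.card_mul_relIndex h.cen
  rw [j0_C ha hF s, h.card, mul_comm 8, mul_assoc, mul_assoc] at c
  rw [Nat.eq_of_mul_eq_mul_left (Nat.zero_lt_of_lt ha.q3) c] at k
  have f := ha.facts
  exact ha.pp.one_lt.ne' ((Nat.Coprime.mul_right ((Nat.coprime_two_right.2 f.2.1).pow_right 3)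
    (f.2.2.2.2.1.mul_right f.2.2.2.2.2.1)).eq_one_of_dvd k)
theorem j0_exQ [Fact p.Prime] {P : Subgroup G} (h : PT p (p ^ n) t P) :
    ∃ Q : Sylow p (L2 F), P = (Q : Subgroup (L2 F)).map φ := by
  have h1 : P ≤ φ.range := fun x hx => s.odd (h.cen hx) (odd_orderOf (h.card ▸ ha.facts.2.1.pow) hx)
  obtain ⟨Q, hQ⟩ := ((j0_syl ha hF s h).isPGroup.comap_of_injective φ s.inj).exists_le_sylow
  exact ⟨Q, eq_of_le_of_card_le ((map_comap_eq_self h1).ge.trans (map_mono hQ))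
    (by rw [h.card, (j0_PT ha hF s Q).card])⟩

theorem j0_main : CF p n m k e t := by
  haveI := Fact.mk ha.pp
  have f := ha.facts
  have ho := j0_odd ha hF
  refine ⟨j0_C ha hF s, ⟨φ.range, ?_, fun ⟨a, e⟩ => s.nt a e, fun g hg => ?_⟩, fun x hx h4 => ?_,
    fun u hu => ?_, fun u hu => ?_, fun u hu x hx x1 g hg e => ?_, fun u u' hu hu' => ?_, ?_,
    fun x hx x1 x2 => ?_, ?_, ⟨_, j0_PT ha hF s default⟩, fun w T w' T' h h' => ?_, fun P P' h h' =>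
      (j0_syl ha hF s h').exists_cj_eq (j0_syl ha hF s h), fun _ P h u hu h1 => ?_, fun he P h => ?_⟩
  · rintro _ ⟨a, rfl⟩; exact s.cen a
  · obtain ⟨a, e⟩ := s.dec g hg
    exact MonoidHom.range_eq_map φ ▸ s.mem e (mem_top a)
  · obtain ⟨a, e⟩ := s.dec x hx
    by_contra k
    have k1 : orderOf (a * a) = 2 := by
      rw [← s.ord, ← s.sq e, ← sq]; exact orderOf_eq_prime (by rwa [← pow_mul]) k
    obtain ⟨R, -, -, r1, -, -, -, -, -, -, r2⟩ := j0_R ha hF k1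
    exact not_mem_of_odd (r1 ▸ ha.odd) k1 (r2 a (mul_assoc a a a).symm)
  · obtain ⟨j, e, hj⟩ := s.of_fg hu
    obtain ⟨R, -, r0, r1, r2, -, -, -, -, -, r3⟩ := j0_R ha hF hj
    rw [s.rw e (r1 ▸ ha.odd) r2 r3]
    exact ⟨isCyclic_map r0 φ, (s.card R).trans r1⟩
  · obtain ⟨j, e, hj⟩ := s.of_fg hu
    obtain ⟨R, v, -, r1, r2, v1, v2, v3, v4, v5, r3⟩ := j0_R ha hF hj
    rw [s.rw e (r1 ▸ ha.odd) r2 r3, s.v4 e]
    refine ⟨φ v, (s.ord v).trans v1, s.cm v, (s.comm (s.cen v) e).2 ((s.comm' (.inl rfl)).2 v2),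
      fun k => ?_, ?_, fun g hg h1 => ?_⟩
    · rcases (mem_V4 (s.fg hj)).1 k with k | k | k | k
      · exact ne_one_of_two v1 (s.inj (k.trans (map_one φ).symm))
      · exact s.nt v k
      · exact v3 (s.inj k)
      · exact s.nt (v * j⁻¹) (by rw [map_mul, k, map_inv, mul_inv_cancel_right])
    · rintro _ ⟨r, hr, rfl⟩
      rw [s.conj (.inl rfl), v4 r hr, map_inv]
    · obtain ⟨a, h2⟩ := s.dec g hg
      obtain ⟨r, hr, w, hw, h3⟩ := v5 a ((s.comm' h2).1 ((s.comm hg e).1 (mem_cent1_iff.1 h1)))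
      have h4 : φ w ∈ V4 t (φ j) := by
        rcases hw with rfl | rfl
        exacts [map_one φ ▸ one_mem _, right_mem_V4 _ _]
      refine ⟨φ r, mem_map_of_mem φ hr, ?_⟩
      rcases h2 with rfl | rfl
      · exact ⟨φ w, h4, h3.imp (fun e => by rw [e, map_mul]) fun e => by rw [e, map_mul, map_mul]⟩
      · exact ⟨φ w * t, mul_mem h4 (left_mem_V4 _ _), h3.imp (fun e => by rw [e, map_mul, mul_assoc])
          fun e => by simp only [e, map_mul, mul_assoc, s.cm v]⟩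
  · obtain ⟨j, e1, hj⟩ := s.of_fg hu
    obtain ⟨R, -, r0, r1, r2, -, -, -, -, -, r3⟩ := j0_R ha hF hj
    rw [s.rw e1 (r1 ▸ ha.odd) r2 r3] at hx e
    obtain ⟨x, hx, rfl⟩ := hx
    obtain ⟨a, h2⟩ := s.dec g hg
    rw [s.conj h2, mem_map_iff_mem s.inj] at e
    exact mem_cent1_iff.2 ((s.comm hg e1).2 ((s.comm' h2).2 (j0_rn (odd_orderOf (r1 ▸ ha.odd) hx)
      (fun e => x1 (e ▸ map_one φ)) (Nat.Coprime.coprime_dvd_left (r1 ▸ orderOf_dvd_card' hx)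
        (hF ▸ f.2.2.2.2.1.symm.pow_right n)) (sq_of_two hj) (r2 x hx).symm
      (mem_cent_iff.1 (comm_iff_le_cent.1 (comm_of_isCyclic r0) hx) _ e))))
  · obtain ⟨j, e, hj⟩ := s.of_fg hu
    obtain ⟨j', e', hj'⟩ := s.of_fg hu'
    obtain ⟨g, rfl⟩ := j0_conj ho hj hj'
    have k := s.conj (.inl rfl : φ g = φ g ∨ _) j
    have k1 : φ g * (φ j * t) * (φ g)⁻¹ = φ (g * j * g⁻¹) * t := by
      rw [← k, mul_assoc, mul_assoc, ← map_inv, ← s.cm]; group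
    refine ⟨φ g, s.cen g, ?_⟩
    rcases e with rfl | rfl <;> rcases e' with rfl | rfl
    · exact .inl k
    · exact .inr (by rw [k, s.cm, ← mul_assoc, sq_of_two s.t2, one_mul])
    · exact .inr (by rw [k1, s.cm])
    · exact .inl k1
  · obtain ⟨u, v, τ, h1, h2, h3, h4⟩ := j0_a4 ho
    have h5 : FG (φ u) (φ v) := ⟨(s.ord u).trans h1.t2, (s.ord v).trans h1.u2,
      (s.comm' (.inl rfl)).2 h1.comm, fun e => h1.ne (s.inj e)⟩
    refine ⟨φ u, φ v, φ τ, h5, s.cen u, s.cen v, s.cen τ, fun k => ?_, (s.ord τ).trans h2,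
      by rw [s.conj (.inl rfl), h3], by rw [s.conj (.inl rfl), h4, map_mul]⟩
    obtain ⟨a, e⟩ := (V4_le (H := φ.range)).2 ⟨⟨u, rfl⟩, ⟨v, rfl⟩⟩ k
    exact s.nt a e
  · obtain ⟨x, rfl⟩ := s.odd hx x2
    rw [s.ord] at x2
    have x0 : x ≠ 1 := fun e => x1 (e ▸ map_one φ)
    by_cases c : p ∣ orderOf x
    · obtain ⟨y, y1, y2⟩ := exists_orderOf_eq_prime ha.pp (Nat.card_zpowers x ▸ c)
      obtain ⟨Q, hQ⟩ := (isPGroup_of_card_prime ((Nat.card_zpowers y).trans y2)).exists_le_sylow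
      refine .inr (.inr ⟨_, j0_PT ha hF s Q, mem_map_of_mem φ (((j0_P ha hF Q).2.2.1 y
        (hQ (mem_zpowers y)) fun e => ha.pp.one_lt.ne (by rw [← y2, e, orderOf_one])).le ?_)⟩)
      exact cent1_le_cent1_of_mem y1 (mem_cent1_self x)
    have h1 : x * x ≠ 1 := fun e => x0 (eq_one_of_odd x2 e)
    have h2 : (orderOf x).Coprime (Fintype.card F) :=
      hF ▸ (ha.pp.coprime_iff_not_dvd.2 c).symm.pow_right n
    have h3 := (F3 h1 h2).2.1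
    rw [j0_gcd ho] at h3
    rcases j0_tor ha hF h3 with h4 | h4
    · obtain ⟨j, j1, j2⟩ := exists_orderOf_eq_prime Nat.prime_two ⟨m, h4⟩
      exact .inl ⟨φ j, s.fg j2, mem_Rw (s.cm x) ((s.comm' (.inl rfl)).2 (mem_cent1_iff.1 j1).symm)
        (s.ord x ▸ x2)⟩
    · obtain ⟨w, h5⟩ := j0_TT ha hF s h1 h2 h4
      exact .inr (.inl ⟨w, _, h5, mem_map_of_mem φ (mem_cent1_self x)⟩)
  · obtain ⟨x, hx⟩ := j0_exT ha hF
    obtain ⟨h1, h2, h3⟩ := j0_k ha hF hx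
    exact (j0_TT ha hF s h1 h2 h3).imp fun _ h => ⟨_, h⟩
  · by_cases k1 : k = 1
    · exact ⟨1, one_mem _, by rw [cj_one, card_eq_one_iff.1 (h.card.trans k1),
        card_eq_one_iff.1 (h'.card.trans k1)]⟩
    obtain ⟨r, hr, hd⟩ := Nat.exists_prime_and_dvd k1
    haveI := Fact.mk hr
    have k2 : ∀ {w T}, TT k t w T → ∃ R, Syl r R T ∧ Syl r R 𝐂[t] := fun {w T} h => by
      obtain ⟨R, hR⟩ := exists_isSylowIn (p := r) T
      refine ⟨R, hR, Syl.trans hR h.cen fun j => ?_⟩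
      have c := H2.card_mul_relIndex h.cen
      rw [j0_C ha hF s, h.card, mul_comm _ k] at c
      rw [Nat.eq_of_mul_eq_mul_left (Odd.pos f.1) c] at j
      exact hr.one_lt.ne' (Nat.eq_one_of_dvd_coprimes (Nat.Coprime.mul_right (Nat.Coprime.mul_right
        ((Nat.coprime_two_right.2 f.1).pow_right 3) (f.2.2.2.2.2.1.symm.pow_right n)) f.2.2.2.1.symm) hd j)
    obtain ⟨R, r1, r2⟩ := k2 h
    obtain ⟨R', r1', r2'⟩ := k2 h'
    obtain ⟨g, hg, rfl⟩ := r2'.exists_cj_eq r2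
    obtain ⟨y, hy, y1⟩ := exists_ne_one_of_ne_bot (Syl.ne_bot r1 (h.card ▸ hd))
    refine ⟨g, hg, eq_of_le_of_card_le (cj_le_iff.2 fun x hx => ?_) (by rw [card_cj, h.card, h'.card])⟩
    have x1 : g * x * g⁻¹ ∈ 𝐂[t] := mul_mem (mul_mem hg (h.cen hx)) (inv_mem hg)
    refine (h'.cent _ (r1'.le (conj_mem_cj hy)) (by simpa using y1) _ x1
      (by rw [conj_mul, conj_mul, h.comm' hx (r1.le hy)])).elim id fun j => mem_of_sq_mem'
        (by rw [orderOf_cj]; exact odd_orderOf (h.odd f.1) hx) ?_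
    have := mul_mem j j
    rwa [mul_assoc, ← mul_assoc t, ← mem_cent1_iff.1 x1, mul_assoc _ t, sq_of_two s.t2, mul_one] at this
  · obtain ⟨Q, rfl⟩ := j0_exQ ha hF s h
    obtain ⟨j, e, hj⟩ := s.of_fg hu
    obtain ⟨h2, h3⟩ := (j0_P ha hF Q).2.2.2.2.1 j ((s.nrm e).1 h1) hj
    obtain ⟨R, -, -, r1, r2, -, -, -, -, -, r3⟩ := j0_R ha hF hj
    rw [s.rw e (r1 ▸ ha.odd) r2 r3]
    constructor
    · rintro _ ⟨z, hz, rfl⟩
      rw [s.conj e, h2 z hz, map_inv]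
    · rintro _ ⟨r, hr, rfl⟩
      exact (s.nrm (.inl rfl)).2 (h3 r (odd_orderOf (r1 ▸ ha.odd) hr) (r2 r hr))
  · obtain ⟨Q, rfl⟩ := j0_exQ ha hF s h
    obtain ⟨x, hx, h0⟩ := (j0_P ha hF Q).2.2.2.2.2 he
    obtain ⟨h1, h2, h3⟩ := j0_k ha hF hx
    obtain ⟨w, h4⟩ := j0_TT ha hF s h1 h2 h3
    refine ⟨w, _, h4, ?_⟩
    rintro _ ⟨r, hr, rfl⟩
    exact (s.nrm (.inl rfl)).2 (h0 hr)

end

theorem J0 {F : Type} [Field F] [Fintype F] (ha : Ar p n m k e) (hF : Fintype.card F = p ^ n) {t : G}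
    {L : Subgroup G} (ht : orderOf t = 2) (hL : L ≤ 𝐂[t]) (htL : t ∉ L)
    (hC : ∀ g ∈ 𝐂[t], g ∈ L ∨ g * t ∈ L) (iso : L ≃* L2 F) : CF p n m k e t :=
  j0_main ha hF (φ := L.subtype.comp iso.symm.toMonoidHom) ⟨ht,
    (subtype_injective L).comp iso.symm.injective, fun a => mem_cent1_iff.1 (hL (iso.symm a).2),
    fun a e => htL (e ▸ (iso.symm a).2), fun g hg => (hC g hg).elim
      (fun h => ⟨iso ⟨g, h⟩, .inl (by simp)⟩) fun h => ⟨iso ⟨_, h⟩, .inr (by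
        simp [mul_assoc, sq_of_two ht])⟩⟩

end Cfsg.Agent.JR
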