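import Cfsg.Agent.JR.Defs

/-! Janko-Ree case: elementary facts on four-groups and tori. -/

set_option autoImplicit false
set_option linter.unusedSectionVars false

namespace Cfsg.Agent.JR

open Subgroup Cfsg.Agent.FT

universe u
variable {G : Type u} [Group G] [Finite G] {p n m k : ℕ} {e : ℤ}

theorem sq_of_two {t : G} (h : orderOf t = 2) : t * t = 1 := by
  rw [← sq, ← h, pow_orderOf_eq_one]
theorem ne_one_of_two {t : G} (h : orderOf t = 2) : t ≠ 1 := by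
  rintro rfl; simp at h
theorem inv_of_two {t : G} (h : orderOf t = 2) : t⁻¹ = t := inv_eq_of_mul_eq_one_right (sq_of_two h)
theorem two_of_sq {t : G} (h : t * t = 1) (h1 : t ≠ 1) : orderOf t = 2 :=
  orderOf_eq_prime (by rw [sq, h]) h1
theorem two_conj {t : G} (h : orderOf t = 2) (g : G) : orderOf (g * t * g⁻¹) = 2 := by
  rw [← h]; exact (MulAut.conj g).orderOf_eq t
theorem orderOf_cj (g x : G) : orderOf (g * x * g⁻¹) = orderOf x := (MulAut.conj g).orderOf_eq x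
theorem eq_one_of_odd {x : G} (ho : Odd (orderOf x)) (h : x * x = 1) : x = 1 := by
  have h1 : orderOf x ∣ 2 := orderOf_dvd_of_pow_eq_one (by rw [sq, h])
  rcases (Nat.dvd_prime Nat.prime_two).1 h1 with h2 | h2
  · exact orderOf_eq_one_iff.1 h2
  · rw [h2] at ho; exact absurd ho (by decide)
theorem not_mem_of_odd {T : Subgroup G} (hT : Odd ♯T) {t : G} (h : orderOf t = 2) : t ∉ T := fun ht => by
  have := Odd.of_dvd_nat hT (h ▸ orderOf_dvd_card' ht)
  exact absurd this (by decide)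
theorem odd_orderOf {T : Subgroup G} (hT : Odd ♯T) {x : G} (h : x ∈ T) : Odd (orderOf x) :=
  Odd.of_dvd_nat hT (orderOf_dvd_card' h)
theorem mem_of_sq_mem' {H : Subgroup G} {c : G} (ho : Odd (orderOf c)) (h : c * c ∈ H) : c ∈ H := by
  obtain ⟨j, hj⟩ := ho
  have : c = (c * c) ^ (j + 1) := by
    rw [← sq, ← pow_mul, show 2 * (j + 1) = orderOf c + 1 by omega, pow_succ, pow_orderOf_eq_one, one_mul]
  rw [this]; exact pow_mem h _

/-- index two -/
theorem card_two {T X : Subgroup G} {t : G} (h1 : T ≤ X) (h2 : t ∈ X) (h3 : t ∉ T)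
    (h : ∀ g ∈ X, g ∈ T ∨ g * t ∈ T) : ♯X = 2 * ♯T := by
  have : T.relIndex X = 2 := by
    rw [relIndex, index_eq_two_iff]
    refine ⟨⟨t, h2⟩, fun b => ?_⟩
    simp only [mem_subgroupOf, coe_mul]
    rcases h b b.2 with h4 | h4
    · exact Or.inr ⟨h4, fun h5 => h3 (by simpa using T.mul_mem (T.inv_mem h4) h5)⟩
    · exact Or.inl ⟨h4, fun h5 => h3 (by simpa using T.mul_mem (T.inv_mem h5) h4)⟩
  rw [← card_mul_relIndex h1, this, mul_comm]

theorem FG.symm {t u : G} (h : FG t u) : FG u t := ⟨h.u2, h.t2, h.comm.symm, h.ne.symm⟩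
theorem FG.tt {t u : G} (h : FG t u) : t * t = 1 := sq_of_two h.t2
theorem FG.uu {t u : G} (h : FG t u) : u * u = 1 := sq_of_two h.u2
theorem FG.mul {t u : G} (h : FG t u) : FG t (t * u) := by
  refine ⟨h.t2, two_of_sq ?_ fun e => h.ne ?_, by rw [mul_assoc, ← h.comm], fun e => ne_one_of_two h.u2 ?_⟩
  · rw [mul_assoc, ← mul_assoc u, ← h.comm, mul_assoc, h.uu, mul_one, h.tt]
  · rw [eq_inv_of_mul_eq_one_left e, inv_of_two h.u2]
  · simpa using e.symm
theorem FG.cj {t u : G} (h : FG t u) (g : G) : FG (g * t * g⁻¹) (g * u * g⁻¹) :=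
  ⟨two_conj h.t2 g, two_conj h.u2 g, by simp only [conj_mul, h.comm], fun e => h.ne (by simpa using e)⟩
theorem mem_zpowers_two {t x : G} (h : orderOf t = 2) : x ∈ zpowers t ↔ x = 1 ∨ x = t := by
  constructor
  · intro hx
    classical
    rw [mem_zpowers_iff_mem_range_orderOf, h] at hx
    simp only [Finset.mem_image, Finset.mem_range] at hx
    obtain ⟨i, hi, rfl⟩ := hx
    interval_cases i <;> simp
  · rintro (rfl | rfl)
    · exact one_mem _
    · exact mem_zpowers _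
theorem left_mem_V4 (t u : G) : t ∈ V4 t u := mem_sup_left (mem_zpowers t)
theorem right_mem_V4 (t u : G) : u ∈ V4 t u := mem_sup_right (mem_zpowers u)
theorem FG.norm {t u : G} (h : FG t u) : zpowers u ≤ 𝐍(zpowers t) :=
  zpowers_le_normalizer (cent_le_norm _ (by rw [cent_zpowers]; exact mem_cent1_iff.2 h.comm.symm))
theorem mem_V4 {t u : G} (h : FG t u) {x : G} : x ∈ V4 t u ↔ x = 1 ∨ x = t ∨ x = u ∨ x = t * u := by
  constructor
  · intro hx
    obtain ⟨a, ha, b, hb, rfl⟩ := (mem_sup_of_le_normalizer' h.norm).1 hx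
    rcases (mem_zpowers_two h.t2).1 ha with rfl | rfl <;> rcases (mem_zpowers_two h.u2).1 hb with rfl | rfl <;>
      simp
  · rintro (rfl | rfl | rfl | rfl)
    · exact one_mem _
    · exact left_mem_V4 _ _
    · exact right_mem_V4 _ _
    · exact mul_mem (left_mem_V4 _ _) (right_mem_V4 _ _)
theorem card_V4 {t u : G} (h : FG t u) : ♯(V4 t u) = 4 := by
  rw [V4, card_sup_of_inf_eq_bot h.norm, Nat.card_zpowers, Nat.card_zpowers, h.t2, h.u2]
  refine eq_bot_iff.2 fun x hx => ?_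
  rcases (mem_zpowers_two h.t2).1 hx.1 with rfl | rfl
  · exact one_mem _
  · rcases (mem_zpowers_two h.u2).1 hx.2 with e | e
    · exact e
    · exact absurd e h.ne
theorem V4_symm (t u : G) : V4 t u = V4 u t := sup_comm _ _
theorem V4_le {t u : G} {H : Subgroup G} : V4 t u ≤ H ↔ t ∈ H ∧ u ∈ H := by
  rw [V4, sup_le_iff, zpowers_le, zpowers_le]
theorem V4_mul (t u : G) : V4 t (t * u) = V4 t u := by
  refine le_antisymm (V4_le.2 ⟨left_mem_V4 _ _, mul_mem (left_mem_V4 _ _) (right_mem_V4 _ _)⟩)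
    (V4_le.2 ⟨left_mem_V4 _ _, ?_⟩)
  simpa using mul_mem (inv_mem (left_mem_V4 t (t * u))) (right_mem_V4 t (t * u))
theorem cent_V4 (t u : G) : 𝐂(V4 t u) = 𝐂[t] ⊓ 𝐂[u] := by
  rw [V4, cent_sup, cent_zpowers, cent_zpowers]
theorem cj_V4 (g t u : G) : cj g (V4 t u) = V4 (g * t * g⁻¹) (g * u * g⁻¹) := by
  rw [V4, V4, cj_sup, cj_zpowers, cj_zpowers]
theorem V4_comm {t u : G} (h : FG t u) : V4 t u ≤ 𝐂(V4 t u) := by
  rw [cent_V4]
  exact V4_le.2 ⟨⟨mem_cent1_self _, mem_cent1_iff.2 h.comm⟩, mem_cent1_iff.2 h.comm.symm, mem_cent1_self _⟩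
theorem V4_sq {t u x : G} (h : FG t u) (hx : x ∈ V4 t u) : x * x = 1 := by
  rcases (mem_V4 h).1 hx with rfl | rfl | rfl | rfl
  · simp
  · exact h.tt
  · exact h.uu
  · exact h.mul.uu
theorem V4_two {t u : G} (h : FG t u) : IsPGroup 2 (V4 t u) :=
  isPGroup_of_card (n := 2) (card_V4 h)
theorem Rw_symm (t u : G) : Rw t u = Rw u t := by
  rw [Rw, Rw]; congr 1; ext x; simp only [Set.mem_ofPred_eq]; tauto
theorem Rw_mul (t u : G) : Rw t (t * u) = Rw t u := by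
  rw [Rw, Rw]; congr 1; ext x; simp only [Set.mem_ofPred_eq]
  refine and_congr_right fun h => and_congr_left fun _ => ?_
  rw [← mul_assoc, h, mul_assoc, mul_assoc, mul_left_cancel_iff]
theorem Rw_le (t u : G) : Rw t u ≤ 𝐂[t] ⊓ 𝐂[u] :=
  (closure_le _).2 fun _ h => ⟨mem_cent1_iff.2 h.1, mem_cent1_iff.2 h.2.1⟩
theorem mem_Rw {t u x : G} (h1 : x * t = t * x) (h2 : x * u = u * x) (h3 : Odd (orderOf x)) :
    x ∈ Rw t u := subset_closure ⟨h1, h2, h3⟩
theorem cj_Rw_le (g t u : G) : cj g (Rw t u) ≤ Rw (g * t * g⁻¹) (g * u * g⁻¹) := by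
  rw [cj_le_iff_le_cj_inv]
  refine (closure_le _).2 fun x hx => ?_
  rw [SetLike.mem_coe, mem_cj, inv_inv]
  refine mem_Rw ?_ ?_ (by rw [orderOf_cj]; exact hx.2.2)
  · simp only [conj_mul, hx.1]
  · simp only [conj_mul, hx.2.1]
theorem cj_Rw (g t u : G) : cj g (Rw t u) = Rw (g * t * g⁻¹) (g * u * g⁻¹) := by
  refine le_antisymm (cj_Rw_le g t u) ?_
  have := cj_mono g (cj_Rw_le g⁻¹ (g * t * g⁻¹) (g * u * g⁻¹))
  rw [cj_cj_inv] at this
  simpa [mul_assoc] using this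
theorem Rw_eq_of_V4 {t u t' u' : G} (h : V4 t u = V4 t' u') : Rw t u = Rw t' u' := by
  rw [Rw, Rw]; congr 1; ext x; simp only [Set.mem_ofPred_eq]
  rw [← and_assoc, ← and_assoc, ← mem_cent1_iff, ← mem_cent1_iff, ← mem_cent1_iff, ← mem_cent1_iff,
    ← mem_inf, ← mem_inf, ← cent_V4, ← cent_V4, h]
theorem Rw_norm {t u : G} (h : FG t u) : 𝐍(V4 t u) ≤ 𝐍(Rw t u) := fun g hg => by
  rw [← cj_eq_iff_mem_normalizer] at hg ⊢
  rw [cj_Rw]; exact Rw_eq_of_V4 (by rw [← cj_V4, hg])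
theorem Rw_le_cent (t u : G) : Rw t u ≤ 𝐂(V4 t u) := by rw [cent_V4]; exact Rw_le t u

theorem TT.mul {t w : G} {T : Subgroup G} (h : TT k t w T) : TT k t (t * w) T := by
  refine ⟨h.fg.mul, h.cyc, h.card, h.cen, fun y hy => ?_, h.cent, fun y hy h1 g hg h2 => ?_⟩
  · have := mem_cent1_iff.1 (h.cen (T.inv_mem hy))
    rw [mul_inv_rev, show t * w * y * (w⁻¹ * t⁻¹) = t * (w * y * w⁻¹) * t⁻¹ by group, h.inv y hy, ← this,
      mul_inv_cancel_right]
  · have e : g * t * (t * w) = g * w := by rw [mul_assoc, ← mul_assoc t, h.fg.tt, one_mul]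
    rw [e, ← mul_assoc]
    rcases h.nrm y hy h1 g hg h2 with h | h | h | h <;> simp [h]
theorem cj_mem_cent1 {g x t : G} : x ∈ 𝐂[g * t * g⁻¹] ↔ g⁻¹ * x * g ∈ 𝐂[t] := by
  rw [← cj_cent1, mem_cj]
theorem TT.cj {t w : G} {T : Subgroup G} (h : TT k t w T) (g : G) :
    TT k (g * t * g⁻¹) (g * w * g⁻¹) (cj g T) := by
  refine ⟨h.fg.cj g, isCyclic_cj g h.cyc, by rw [card_cj, h.card], by rw [← cj_cent1]; exact cj_mono g h.cen,
    fun y hy => ?_, fun y hy h1 x hx h2 => ?_, fun y hy h1 x hx h2 => ?_⟩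
  · have := h.inv _ (mem_cj.1 hy)
    calc _ = g * (w * (g⁻¹ * y * g) * w⁻¹) * g⁻¹ := by group
      _ = _ := by rw [this]; group
  · have := h.cent _ (mem_cj.1 hy) (fun e => h1 (by simpa [mul_assoc] using congrArg (fun z => g * z * g⁻¹) e))
      _ (cj_mem_cent1.1 hx) (by
        calc _ = g⁻¹ * (x * y) * g := by group
          _ = _ := by rw [h2]; group)
    simpa only [mem_cj, mul_assoc, inv_mul_cancel_left, inv_mul_cancel, mul_one] using this
  · have := h.nrm _ (mem_cj.1 hy) (fun e => h1 (by simpa [mul_assoc] using congrArg (fun z => g * z * g⁻¹) e))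
      _ (cj_mem_cent1.1 hx) (by convert mem_cj.1 h2 using 1; group)
    simpa only [mem_cj, mul_assoc, inv_mul_cancel_left, inv_mul_cancel, mul_one] using this
theorem PT.cj {q : ℕ} {t : G} {P : Subgroup G} (h : PT p q t P) (g : G) :
    PT p q (g * t * g⁻¹) (cj g P) := by
  refine ⟨two_conj h.t2 g, by rw [card_cj, h.card], fun x hx y hy => ?_, fun x hx => ?_,
    by rw [← cj_cent1]; exact cj_mono g h.cen, fun y hy h1 x hx h2 => ?_, fun y hy h1 x hx h2 => ?_, ?_⟩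
  · have := h.comm _ (mem_cj.1 hx) _ (mem_cj.1 hy)
    calc _ = g * ((g⁻¹ * x * g) * (g⁻¹ * y * g)) * g⁻¹ := by group
      _ = _ := by rw [this]; group
  · have := h.exp _ (mem_cj.1 hx)
    calc _ = g * (g⁻¹ * x * g⁻¹⁻¹) ^ p * g⁻¹ := by rw [conj_pow]; group
      _ = _ := by rw [inv_inv, this]; group
  · have := h.cent _ (mem_cj.1 hy) (fun e => h1 (by simpa [mul_assoc] using congrArg (fun z => g * z * g⁻¹) e))
      _ (cj_mem_cent1.1 hx) (by
        calc _ = g⁻¹ * (x * y) * g := by group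
          _ = _ := by rw [h2]; group)
    simpa only [mem_cj, mul_assoc, inv_mul_cancel_left, inv_mul_cancel, mul_one] using this
  · have := h.nrm _ (mem_cj.1 hy) (fun e => h1 (by simpa [mul_assoc] using congrArg (fun z => g * z * g⁻¹) e))
      _ (cj_mem_cent1.1 hx) (by convert mem_cj.1 h2 using 1; group)
    rw [← cj_normalizer, mem_cj]; exact this
  · rw [← cj_normalizer, ← cj_cent1, ← cj_inf, card_cj, h.cN]
theorem TT.odd (hk : Odd k) {t w : G} {T : Subgroup G} (h : TT k t w T) : Odd ♯T := h.card ▸ hk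
theorem TT.comm {t w : G} {T : Subgroup G} (h : TT k t w T) : T ≤ 𝐂(T) :=
  comm_iff_le_cent.1 (comm_of_isCyclic h.cyc)
theorem TT.comm' {t w : G} {T : Subgroup G} (h : TT k t w T) {x y : G} (hx : x ∈ T) (hy : y ∈ T) :
    x * y = y * x := mem_cent_iff.1 (h.comm hy) x hx
theorem TT.wN {t w : G} {T : Subgroup G} (h : TT k t w T) : w ∈ 𝐍(T) :=
  mem_normalizer_of_conj_mem fun y hy => by rw [h.inv y hy]; exact inv_mem hy
theorem TT.tC {t w : G} {T : Subgroup G} (h : TT k t w T) : t ∈ 𝐂(T) := le_cent1_iff.1 h.cen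
theorem TT.tN {t w : G} {T : Subgroup G} (h : TT k t w T) : t ∈ 𝐍(T) := cent_le_norm _ h.tC
theorem TT.not_comm (hk : Odd k) {t w y : G} {T : Subgroup G} (h : TT k t w T) (hy : y ∈ T) (h1 : y ≠ 1) :
    w * y ≠ y * w := fun e => by
  have := h.inv y hy
  rw [e, mul_inv_cancel_right] at this
  exact h1 (eq_one_of_odd (odd_orderOf (h.odd hk) hy) (mul_eq_one_iff_eq_inv.2 this))
theorem TT.of_mem {t w a : G} {T : Subgroup G} (h : TT k t w T) (ha : a ∈ T) (hf : FG t (a * w)) :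
    TT k t (a * w) T := by
  refine ⟨hf, h.cyc, h.card, h.cen, fun y hy => ?_, h.cent, fun y hy h1 g hg h2 => ?_⟩
  · rw [mul_inv_rev, show a * w * y * (w⁻¹ * a⁻¹) = a * (w * y * w⁻¹) * a⁻¹ by group, h.inv y hy,
      h.comm' ha (inv_mem hy), mul_inv_cancel_right]
  · have e : ∀ x, x * (a * w) = x * w * a⁻¹ := fun x => by
      have := h.inv a ha
      rw [← this, inv_of_two h.fg.u2, mul_assoc x w, ← mul_assoc w, ← mul_assoc w,
        h.fg.uu, one_mul]
    rw [e, e, T.mul_mem_cancel_right (inv_mem ha), T.mul_mem_cancel_right (inv_mem ha)]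
    exact h.nrm y hy h1 g hg h2
theorem TT.of_inv (hk : Odd k) {t w w' y : G} {T : Subgroup G} (h : TT k t w T) (hy : y ∈ T) (h1 : y ≠ 1)
    (hf : FG t w') (hi : w' * y * w'⁻¹ = y⁻¹) : TT k t w' T := by
  have hn : w' * y ≠ y * w' := fun e => by
    rw [e, mul_inv_cancel_right] at hi
    exact h1 (eq_one_of_odd (odd_orderOf (h.odd hk) hy) (mul_eq_one_iff_eq_inv.2 hi))
  have ht := mem_cent1_iff.1 (h.cen hy)
  rcases h.nrm y hy h1 w' (mem_cent1_iff.2 hf.comm.symm) (hi ▸ inv_mem hy) with h2 | h2 | h2 | h2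
  · exact absurd (h.comm' h2 hy) hn
  · refine absurd ?_ hn
    have := h.comm' h2 hy
    rw [mul_assoc, ← ht, ← mul_assoc, ← mul_assoc] at this
    exact mul_right_cancel this
  · have e : w' = w' * w * w := by rw [mul_assoc, h.fg.uu, mul_one]
    rw [e] at hf ⊢; exact h.of_mem h2 hf
  · have e : w' = w' * t * w * (t * w) := by
      rw [mul_assoc w' t w, mul_assoc w', h.fg.mul.uu, mul_one]
    rw [e] at hf ⊢; exact h.mul.of_mem h2 hf
theorem TT.card2 (hk : Odd k) {t w y : G} {T : Subgroup G} (h : TT k t w T) (hy : y ∈ T) (h1 : y ≠ 1) :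
    ♯(𝐂[t] ⊓ 𝐂[y] : Subgroup G) = 2 * k := by
  rw [← h.card]
  exact card_two (le_inf h.cen (h.comm.trans (cent_le_cent1 hy)))
    ⟨mem_cent1_self _, mem_cent1_comm.1 (h.cen hy)⟩ (not_mem_of_odd (h.odd hk) h.fg.t2)
    fun g hg => h.cent y hy h1 g hg.1 (mem_cent1_iff.1 hg.2)
theorem TT.card4' (hk : Odd k) {t w y : G} {T X : Subgroup G} (h : TT k t w T) (hy : y ∈ T) (h1 : y ≠ 1)
    (h2 : 𝐂[t] ⊓ 𝐂[y] ≤ X) (h3 : w ∈ X) (h4 : X ≤ 𝐂[t]) (h5 : ∀ g ∈ X, g * y * g⁻¹ ∈ T) : ♯X = 4 * k := by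
  rw [card_two h2 h3 (fun e => h.not_comm hk hy h1 (mem_cent1_iff.1 e.2)), h.card2 hk hy h1]
  · ring
  · intro g hg
    have hT : T ≤ 𝐂[t] ⊓ 𝐂[y] := le_inf h.cen (h.comm.trans (cent_le_cent1 hy))
    have ht : t ∈ 𝐂[t] ⊓ 𝐂[y] := ⟨mem_cent1_self _, mem_cent1_comm.1 (h.cen hy)⟩
    rcases h.nrm y hy h1 g (h4 hg) (h5 g hg) with h6 | h6 | h6 | h6
    · exact Or.inl (hT h6)
    · exact Or.inl ((mul_mem_cancel_right ht).1 (hT h6))
    · exact Or.inr (hT h6)
    · rw [mul_assoc, h.fg.comm, ← mul_assoc] at h6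
      exact Or.inr ((mul_mem_cancel_right ht).1 (hT h6))
theorem TT.card4 (hk : Odd k) {t w y : G} {T : Subgroup G} (h : TT k t w T) (hy : y ∈ T) (h1 : y ≠ 1) :
    ♯(𝐂[t] ⊓ 𝐂[y] : Subgroup G) = 2 * k ∧ ♯(𝐂[t] ⊓ 𝐍(zpowers y) : Subgroup G) = 4 * k ∧
      ♯(𝐂[t] ⊓ 𝐍(T) : Subgroup G) = 4 * k := by
  have hw : w ∈ 𝐂[t] := mem_cent1_iff.2 h.fg.comm.symm
  refine ⟨h.card2 hk hy h1, h.card4' hk hy h1 (inf_le_inf_left _ ?_) ⟨hw, ?_⟩ inf_le_left fun g hg => ?_,
    h.card4' hk hy h1 (fun g hg => ⟨hg.1, ?_⟩) ⟨hw, h.wN⟩ inf_le_left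
      fun g hg => conj_mem_of_mem_normalizer hg.2 hy⟩
  · rw [← cent_zpowers]; exact cent_le_norm _
  · exact normalizer_le_of_le_cyclic h.cyc (zpowers_le.2 hy) h.wN
  · exact zpowers_le.2 hy (conj_mem_of_mem_normalizer hg.2 (mem_zpowers y))
  · rcases h.cent y hy h1 g hg.1 (mem_cent1_iff.1 hg.2) with h2 | h2
    · exact le_normalizer h2
    · exact (mul_mem_cancel_right h.tN).1 (le_normalizer h2)

theorem Ar.facts (h : Ar p n m k e) : Odd k ∧ Odd p ∧ (k : ℤ) = 2 * m + e ∧ m.Coprime k ∧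
    p.Coprime m ∧ p.Coprime k ∧ 0 < n ∧ (p = 3 → e = -1) ∧ (3 ∣ m ∨ 3 ∣ k ∨ p = 3) ∧
    (e = 1 → p ^ n - 1 = 4 * m) ∧ (e = -1 → p ^ n - 1 = 2 * k) := by
  have h1 := h.hq
  have h2 := h.hk
  have h3 := h.q3
  have h4 := Nat.odd_iff.1 h.odd
  have hn : 0 < n := by
    rcases n with _ | n
    · simp at h3
    · omega
  have hk : (k : ℤ) = 2 * m + e := by omega
  have hpq : p ∣ p ^ n := dvd_pow_self p hn.ne'
  have c1 : ∀ a : ℕ, ∀ b c : ℤ, b * a + c * (p ^ n : ℕ) = 1 ∨ b * a + c * (p ^ n : ℕ) = -1 → p.Coprime a := by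
    intro a b c hb
    rw [h.pp.coprime_iff_not_dvd]
    intro hd
    have d1 : (p : ℤ) ∣ b * a + c * (p ^ n : ℕ) :=
      dvd_add (Dvd.dvd.mul_left (by exact_mod_cast hd) _) (Dvd.dvd.mul_left (by exact_mod_cast hpq) _)
    have d2 : (p : ℤ) ∣ 1 := by
      rcases hb with hb | hb <;> rw [hb] at d1
      · exact d1
      · exact (dvd_neg).1 d1
    exact h.pp.one_lt.ne' (Nat.dvd_one.1 (by exact_mod_cast d2))
  generalize hq : p ^ n = q at *
  have oq : q % 2 = 1 := by rcases h.he with rfl | rfl <;> omega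
  refine ⟨Nat.odd_iff.2 (by rcases h.he with rfl | rfl <;> omega), ?_, hk, ?_, c1 m 4 (-1) ?_, c1 k 2 (-1) ?_, hn,
    ?_, ?_, fun e1 => by omega, fun e1 => by omega⟩
  · exact Odd.of_dvd_nat (Nat.odd_iff.2 oq) hpq
  · rw [← Nat.isCoprime_iff_coprime]
    rcases h.he with rfl | rfl
    · exact ⟨-2, 1, by rw [hk]; ring⟩
    · exact ⟨2, -1, by rw [hk]; ring⟩
  · rcases h.he with rfl | rfl <;> omega
  · rcases h.he with rfl | rfl <;> omega
  · rintro rfl
    have : 3 ^ n % 8 = 1 ∨ 3 ^ n % 8 = 3 := by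
      clear * -
      induction n with
      | zero => simp
      | succ n ih => rw [pow_succ]; omega
    rw [hq] at this
    rcases h.he with rfl | rfl <;> omega
  · by_cases h5 : 3 ∣ q
    · right; right
      rw [← hq] at h5
      exact ((Nat.prime_dvd_prime_iff_eq Nat.prime_three h.pp).1 (Nat.prime_three.dvd_of_dvd_pow h5)).symm
    · rw [← or_assoc]; left
      have : m % 3 = 0 ∨ m % 3 = 1 ∨ m % 3 = 2 := by omega
      rcases h.he with rfl | rfl <;> rcases this with h6 | h6 | h6 <;> omega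

end Cfsg.Agent.JR
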