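import Cfsg.Agent.FT.P.BG03a
import Cfsg.Agent.FT.Main
import Cfsg.Agent.FT.Char4

/-! The Janko-Ree case of S2554: definitions (see `notes/jr_plan.md`). -/

set_option autoImplicit false
set_option linter.unusedSectionVars false

namespace Cfsg.Agent.JR

open Subgroup Cfsg.Agent.FT

universe u

/-- `PSL₂(F)` -/
abbrev L2 (F : Type) [Field F] : Type := Matrix.ProjectiveSpecialLinearGroup (Fin 2) F
/-- `2 × A₅` -/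
abbrev Z2A5 : Type := Multiplicative (ZMod 2) × alternatingGroup (Fin 5)

/-- all Sylow subgroups are abelian -/
def AG (G : Type u) [Group G] : Prop := ∀ (p : ℕ), p.Prime → ∀ (P : Sylow p G), IsMulCommutative ↥P

/-- the conclusion of the classification -/
def Cl (G : Type u) [Group G] : Prop :=
  (∃ t : G, orderOf t = 2 ∧ Nonempty (centralizer ({t} : Set G) ≃* Z2A5)) ∨
    ∃ (F : Type) (_ : Field F) (_ : Fintype F), 3 < Fintype.card F ∧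
      (Fintype.card F % 8 = 0 ∨ Fintype.card F % 8 = 3 ∨ Fintype.card F % 8 = 5) ∧
      Nonempty (G ≃* L2 F)

/-- the induction hypothesis -/
def IH (n : ℕ) : Prop := ∀ (H : Type u) [Group H] [Finite H] [IsSimpleGroup H],
  Nat.card H < n → ¬ IsMulCommutative H → AG H → Cl H

/-- the arithmetic of `q = p ^ n ≡ ± 3 (8)` -/
structure Ar (p n m k : ℕ) (e : ℤ) : Prop where
  pp : p.Prime
  he : e = 1 ∨ e = -1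
  hq : ((p ^ n : ℕ) : ℤ) = 4 * m + e
  hk : (2 * k : ℤ) = (p ^ n : ℕ) + e
  odd : Odd m
  q3 : 3 < p ^ n

variable {G : Type u} [Group G] [Finite G]

/-- two distinct commuting involutions -/
structure FG (t u : G) : Prop where
  t2 : orderOf t = 2
  u2 : orderOf u = 2
  comm : t * u = u * t
  ne : t ≠ u

/-- the four-group -/
def V4 (t u : G) : Subgroup G := zpowers t ⊔ zpowers u
/-- the odd part of the centraliser of the four-group -/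
def Rw (t u : G) : Subgroup G := closure {x | x * t = t * x ∧ x * u = u * x ∧ Odd (orderOf x)}

/-- the torus `T` of odd order `k` in `C(t)`, inverted by `w` -/
structure TT (k : ℕ) (t w : G) (T : Subgroup G) : Prop where
  fg : FG t w
  cyc : IsCyclic T
  card : ♯T = k
  cen : T ≤ 𝐂[t]
  inv : ∀ y ∈ T, w * y * w⁻¹ = y⁻¹
  cent : ∀ y ∈ T, y ≠ 1 → ∀ g ∈ 𝐂[t], g * y = y * g → g ∈ T ∨ g * t ∈ T
  nrm : ∀ y ∈ T, y ≠ 1 → ∀ g ∈ 𝐂[t], g * y * g⁻¹ ∈ T →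
    g ∈ T ∨ g * t ∈ T ∨ g * w ∈ T ∨ g * t * w ∈ T

/-- the Sylow `p`-subgroup of `C(t)` -/
structure PT (p q : ℕ) (t : G) (P : Subgroup G) : Prop where
  t2 : orderOf t = 2
  card : ♯P = q
  comm : ∀ x ∈ P, ∀ y ∈ P, x * y = y * x
  exp : ∀ x ∈ P, x ^ p = 1
  cen : P ≤ 𝐂[t]
  cent : ∀ z ∈ P, z ≠ 1 → ∀ g ∈ 𝐂[t], g * z = z * g → g ∈ P ∨ g * t ∈ P
  nrm : ∀ z ∈ P, z ≠ 1 → ∀ g ∈ 𝐂[t], g * z * g⁻¹ ∈ P → g ∈ 𝐍(P)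
  cN : ♯(𝐍(P) ⊓ 𝐂[t] : Subgroup G) = q * (q - 1)

/-- the local structure of `C(t) = ⟨t⟩ × L₂(q)` -/
structure CF (p n m k : ℕ) (e : ℤ) (t : G) : Prop where
  card : ♯𝐂[t] = 8 * p ^ n * m * k
  sgn : ∃ L : Subgroup G, L ≤ 𝐂[t] ∧ t ∉ L ∧ ∀ g ∈ 𝐂[t], g ∈ L ∨ g * t ∈ L
  sq : ∀ x ∈ 𝐂[t], x ^ 4 = 1 → x ^ 2 = 1
  rcyc : ∀ u, FG t u → IsCyclic (Rw t u) ∧ ♯(Rw t u) = m
  rcen : ∀ u, FG t u → ∃ s, orderOf s = 2 ∧ s * t = t * s ∧ s * u = u * s ∧ s ∉ V4 t u ∧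
    (∀ r ∈ Rw t u, s * r * s⁻¹ = r⁻¹) ∧
    ∀ g ∈ 𝐂[t], g ∈ 𝐂[u] → ∃ r ∈ Rw t u, ∃ w ∈ V4 t u, g = r * w ∨ g = r * w * s
  rnrm : ∀ u, FG t u → ∀ x ∈ Rw t u, x ≠ 1 → ∀ g ∈ 𝐂[t], g * x * g⁻¹ ∈ Rw t u → g ∈ 𝐂[u]
  cjR : ∀ u u', FG t u → FG t u' → ∃ g ∈ 𝐂[t], g * u * g⁻¹ = u' ∨ g * u * g⁻¹ = t * u'
  a4 : ∃ u v τ : G, FG u v ∧ u ∈ 𝐂[t] ∧ v ∈ 𝐂[t] ∧ τ ∈ 𝐂[t] ∧ t ∉ V4 u v ∧ orderOf τ = 3 ∧
    τ * u * τ⁻¹ = v ∧ τ * v * τ⁻¹ = u * v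
  tri : ∀ x ∈ 𝐂[t], x ≠ 1 → Odd (orderOf x) → (∃ u, FG t u ∧ x ∈ Rw t u) ∨
    (∃ w T, TT k t w T ∧ x ∈ T) ∨ ∃ P, PT p (p ^ n) t P ∧ x ∈ P
  exT : ∃ w T, TT k t w T
  exP : ∃ P, PT p (p ^ n) t P
  cjT : ∀ w T w' T', TT k t w T → TT k t w' T' → ∃ g ∈ 𝐂[t], cj g T = T'
  cjP : ∀ P P', PT p (p ^ n) t P → PT p (p ^ n) t P' → ∃ g ∈ 𝐂[t], cj g P = P'
  pP : e = 1 → ∀ P, PT p (p ^ n) t P → ∀ u, FG t u → u ∈ 𝐍(P) →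
    (∀ z ∈ P, u * z * u⁻¹ = z⁻¹) ∧ Rw t u ≤ 𝐍(P)
  pM : e = -1 → ∀ P, PT p (p ^ n) t P → ∃ w T, TT k t w T ∧ T ≤ 𝐍(P)

/-- the entry hypothesis -/
structure Ent (t : G) (L : Subgroup G) (F : Type) [Field F] [Fintype F] : Prop where
  simple : IsSimpleGroup G
  ag : AG G
  ih : IH.{u} (Nat.card G)
  t2 : orderOf t = 2
  nrm : L ⊴ 𝐂[t]
  iso : Nonempty (L ≃* L2 F)
  q3 : 3 < Fintype.card F
  q8 : Fintype.card F % 8 = 3 ∨ Fintype.card F % 8 = 5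
  cen : 𝐂[t] ⊓ 𝐂(L) = zpowers t
  odd : Odd ((zpowers t ⊔ L).relIndex 𝐂[t])

/-- the standing hypothesis of the Janko-Ree analysis -/
structure JR (G : Type u) [Group G] (p n m k : ℕ) (e : ℤ) : Prop where
  simple : IsSimpleGroup G
  ag : AG G
  ih : IH.{u} (Nat.card G)
  ar : Ar p n m k e
  m1 : 1 < m
  ex : ∃ t : G, orderOf t = 2
  conj : ∀ t u : G, orderOf t = 2 → orderOf u = 2 → IsConj t u
  cf : ∀ t : G, orderOf t = 2 → CF p n m k e t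

/-- `s` and `τ` for the four-group `⟨t, u⟩` -/
structure ST (t u s τ : G) : Prop where
  fg : FG t u
  s2 : orderOf s = 2
  st : s * t = t * s
  su : s * u = u * s
  sW : s ∉ V4 t u
  inv : ∀ r ∈ Rw t u, s * r * s⁻¹ = r⁻¹
  cen : ∀ g ∈ 𝐂[t], g ∈ 𝐂[u] → ∃ r ∈ Rw t u, ∃ w ∈ V4 t u, g = r * w ∨ g = r * w * s
  t3 : orderOf τ = 3
  ts : τ * s = s * τ
  c1 : τ * t * τ⁻¹ = u
  c2 : τ * u * τ⁻¹ = t * u

/-- centralisers of elements of `R` -/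
def CX (G : Type u) [Group G] : Prop :=
  ∀ t u : G, FG t u → ∀ x ∈ Rw t u, x ≠ 1 → 𝐂[x] ≤ 𝐍(V4 t u)
/-- centralisers of elements of `T` -/
def TTI (G : Type u) [Group G] (k : ℕ) : Prop :=
  ∀ (t w : G) (T : Subgroup G), TT k t w T → ∀ y ∈ T, y ≠ 1 → 𝐂[y] ≤ 𝐂[t]
/-- a bad prime -/
def Bad (G : Type u) [Group G] (k r : ℕ) : Prop :=
  ∃ (t w : G) (T : Subgroup G) (y z : G), TT k t w T ∧ y ∈ T ∧ orderOf y = r ∧ orderOf z = r ∧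
    z * y = y * z ∧ z * w = w * z ∧ t * z * t⁻¹ = z⁻¹

/-- the order formula -/
def OF (g q : ℕ) (e f : ℤ) : Prop :=
  (g : ℤ) * f ^ 2 = (q : ℤ) ^ 2 * ((q : ℤ) ^ 2 - 1) * (((q : ℤ) ^ 2 - 1) * f - e * q) * ((q + e) * f - e)

end Cfsg.Agent.JR
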