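import Cfsg.Agent.JR.B1
import Cfsg.Agent.OC.PG

/-! Janko-Ree case: facts on `L₂(q)`, `q ≡ ± 3 (8)`. -/

set_option autoImplicit false
set_option linter.unusedSectionVars false

namespace Cfsg.Agent.JR

open Subgroup Cfsg.Agent.FT Cfsg.Agent.H1 Cfsg.Agent.MC Cfsg.Agent.MC.PF
open scoped MatrixGroups

variable {F : Type} [Field F] [Fintype F] {p n m k : ℕ} {e : ℤ} {j x g : L2 F}

theorem j0_two (ho : Odd (Fintype.card F)) : (2 : F) ≠ 0 := Ring.two_ne_zero fun e => by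
  have := FiniteField.even_card_of_char_two e
  have := Nat.odd_iff.1 ho
  omega
theorem j0_four (h2 : (2 : F) ≠ 0) {T : SL(2, F)} (t0 : tr T = 0) : tr T ^ 2 ≠ 4 := fun e =>
  h2 (pow_eq_zero_iff two_ne_zero |>.1 (by rw [t0] at e; linear_combination -e))
theorem j0_gcd (ho : Odd (Fintype.card F)) : Nat.gcd 2 (Fintype.card F - 1) = 2 :=
  Nat.gcd_eq_left (Nat.Odd.sub_odd ho odd_one).two_dvd
theorem j0_conj (ho : Odd (Fintype.card F)) {j' : L2 F} (hj : orderOf j = 2) (hj' : orderOf j' = 2) :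
    ∃ g, g * j * g⁻¹ = j' := by
  obtain ⟨T, rfl⟩ := pr_surj j
  obtain ⟨u, rfl⟩ := pr_surj j'
  have t0 := tr_inv2 (j0_two ho) hj
  obtain ⟨P, e⟩ := conj_of_tr (j0_four (j0_two ho) t0) ((tr_inv2 (j0_two ho) hj').trans t0.symm)
  exact ⟨pr P, by rw [← e, map_mul, map_mul, map_inv]⟩
theorem j0_inv (ho : Odd (Fintype.card F)) (ht : orderOf j = 2) : ∃ (K : Subgroup (L2 F)) (s : L2 F),
    IsCyclic K ∧ (2 * ♯K + 1 = Fintype.card F ∨ 2 * ♯K = Fintype.card F + 1) ∧ j ∈ K ∧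
    (∀ u ∈ K, orderOf u = 2 → u = j) ∧ s * s = 1 ∧ s ∉ K ∧ (∀ x ∈ K, s * x * s⁻¹ = x⁻¹) ∧
    ∀ g, g * j = j * g → g ∈ K ∨ g * s ∈ K := by
  obtain ⟨T, rfl⟩ := pr_surj j
  have h2 := j0_two ho
  have t0 := tr_inv2 h2 ht
  have t4 := j0_four h2 t0
  have ti : (pr T)⁻¹ = pr T := inv_of_two ht
  obtain ⟨S, s1, s2⟩ := exists_s t4
  have c := card_im (cen_le T)
  rw [j0_gcd ho] at c
  have k := mul_inv_eq_iff_eq_mul.1 (s2 T rfl)
  rw [inv_eq_of_mul_eq_one_right (show T * -T = 1 by rw [mul_neg, sq_of_tr t0, neg_neg])] at k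
  refine ⟨(𝐂[T]).map pr, pr S, isCyclic_map (torus t4).1 pr, c ▸ (torus t4).2,
    mem_map_of_mem _ (mem_cent1_self T), ?_, by rw [← map_mul, s1, pr_neg, map_one], ?_, ?_,
    fun g e => ?_⟩
  · rintro _ ⟨u, hu, rfl⟩ e
    exact (same_tr t4 (mem_cent1_iff.1 hu) ((tr_inv2 h2 e).trans t0.symm)).elim id fun k => k.trans ti
  · rintro ⟨u, hu, e⟩
    have k1 : S * T = T * S := by
      have := mem_cent1_iff.1 hu
      rcases pr_eq.1 e with rfl | rfl
      · exact this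
      · simpa using this
    have k2 := sq_of_tr t0
    nth_rw 1 [← mul_right_cancel (k.symm.trans k1)] at k2
    rw [neg_mul, sq_of_tr t0, neg_neg] at k2
    replace k2 := (ext2.1 k2).1
    simp only [neg2, one2] at k2
    exact h2 (by linear_combination k2)
  · rintro _ ⟨x, hx, rfl⟩
    rw [← map_inv, ← map_mul, ← map_mul, s2 x (mem_cent1_iff.1 hx), map_inv]
  · obtain ⟨g, rfl⟩ := pr_surj g
    rw [← map_mul, ← map_mul, pr_eq] at e
    refine e.imp (fun e => mem_map_of_mem _ (mem_cent1_iff.2 e)) fun e => ?_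
    rw [← map_mul]
    refine mem_map_of_mem _ (mem_cent1_iff.2 ?_)
    rw [mul_assoc, k, neg_mul, mul_neg, ← mul_assoc, e, neg_mul, neg_neg, mul_assoc]
theorem j0_a4 (ho : Odd (Fintype.card F)) : ∃ u v τ : L2 F, FG u v ∧ orderOf τ = 3 ∧
    τ * u * τ⁻¹ = v ∧ τ * v * τ⁻¹ = u * v := by
  have h2 := j0_two ho
  obtain ⟨a, b, h⟩ := qf (A := (1 : F)) (B := 0) (C := 1) (fun k => h2 (pow_eq_zero_iff two_ne_zero |>.1
    (by linear_combination -k))) (-1)
  obtain ⟨c, hc⟩ : ∃ c : F, 2 * c = 1 := ⟨_, mul_inv_cancel₀ h2⟩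
  let J := mk2 a b b (-a) (by linear_combination -h)
  let w := mk2 (c * (1 + a - b)) (c * (-1 + b + a)) (c * (1 + b + a)) (c * (1 - a + b)) (by
    linear_combination (-2 * c ^ 2) * h + (2 * c + 1) * hc)
  have e1 : w * W 0 * w⁻¹ = J := by
    simp only [mul_inv_eq_iff_eq_mul, ext2, mul2, W2, w, J, mk22]
    refine ⟨?_, ?_, ?_, ?_⟩ <;> first | linear_combination (-c) * h | linear_combination c * h
  have e2 : w * J * w⁻¹ = W 0 * J := by
    simp only [mul_inv_eq_iff_eq_mul, ext2, mul2, W2, w, J, mk22]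
    refine ⟨?_, ?_, ?_, ?_⟩ <;> first | ring1 | linear_combination (-c) * h | linear_combination c * h
  have e3 : W 0 * J = -(J * W 0) := by
    simp only [ext2, mul2, neg2, W2, J, mk22]
    refine ⟨?_, ?_, ?_, ?_⟩ <;> ring
  have t2 : orderOf (pr (W (0 : F))) = 2 := two_of_sq (by
    rw [← map_mul, sq_of_tr (tr_W 0), pr_neg, map_one]) fun e => by
      simpa [W2] using (pr_mem_U.1 (e.symm ▸ one_mem (uH F).range :)).1
  have f1 : pr w * pr (W 0) * (pr w)⁻¹ = pr J := by rw [← e1, map_mul, map_mul, map_inv]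
  have ne : pr (W 0) ≠ pr J := fun e => by
    rcases pr_eq.1 e with e | e <;> have := ext2.1 e <;> simp only [W2, J, mk22, neg2] at this <;>
      exact h2 (by first | linear_combination this.2.2.1 - this.2.1 | linear_combination this.2.1 - this.2.2.1)
  refine ⟨pr (W 0), pr J, pr w, ⟨t2, f1 ▸ two_conj t2 _, by rw [← map_mul, ← map_mul, e3, pr_neg], ne⟩,
    orderOf_eq_prime ?_ fun e => ne (by rw [← f1, e, one_mul, inv_one, mul_one]), f1,
    by rw [← map_inv, ← map_mul, ← map_mul, e2, map_mul]⟩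
  rw [pow_three', ← map_mul, ← map_mul, cube_of_tr (by
    simp only [tr, w, mk22]; linear_combination hc), pr_neg, map_one]
theorem j0_rn (ho : Odd (orderOf x)) (h1 : x ≠ 1) (hc : (orderOf x).Coprime (Fintype.card F))
    (hj : j * j = 1) (h2 : j * x = x * j) (h3 : g * x * g⁻¹ * x = x * (g * x * g⁻¹)) : g * j = j * g := by
  have h4 : x * x ≠ 1 := fun e => h1 (eq_one_of_odd ho e)
  obtain ⟨-, -, s, -, s1, s2⟩ := F3 h4 hc
  rcases s2 g (mem_cent1_iff.2 h3) with k | k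
  · exact F1 h4 k h2
  have k1 := F1 h4 k h2
  rw [mul_assoc, mul_inv_eq_iff_eq_mul.1 ((s1 j h2).trans (inv_eq_of_mul_eq_one_right hj)),
    ← mul_assoc, ← mul_assoc] at k1
  exact mul_right_cancel k1

section
variable (ha : Ar p n m k e) (hF : Fintype.card F = p ^ n)
include ha hF

theorem j0_odd : Odd (Fintype.card F) := hF ▸ ha.facts.2.1.pow
theorem j0_char : CharP F p := by
  obtain ⟨r, c, l, hr, e⟩ := FiniteField.card' F
  have := hr.dvd_of_dvd_pow (n := n) (by rw [← hF, e]; exact dvd_pow_self r l.ne_zero)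
  exact (Nat.prime_dvd_prime_iff_eq hr ha.pp).1 this ▸ c
theorem j0_card : Nat.card (L2 F) = 4 * p ^ n * m * k := by
  have c := BW.Z2.card_PSL2 (j0_odd ha hF)
  have h1 := ha.hq
  have h2 := ha.hk
  rw [hF] at c
  zify [Nat.one_le_pow 2 _ (Nat.zero_lt_of_lt ha.q3)] at c h1 h2 ⊢
  have : e ^ 2 = 1 := by rcases ha.he with rfl | rfl <;> rfl
  refine mul_left_cancel₀ two_ne_zero (c.trans ?_)
  linear_combination (p ^ n * (p ^ n + e)) * h1 - (4 * p ^ n * m) * h2 + p ^ n * this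
theorem j0_tor {c : ℕ} (h : 2 * c + 1 = Fintype.card F ∨ 2 * c = Fintype.card F + 1) :
    c = 2 * m ∨ c = k := by
  have h1 := ha.hq
  have h2 := ha.hk
  rw [← hF] at h1 h2
  rcases ha.he with rfl | rfl <;> omega
theorem j0_R (hj : orderOf j = 2) : ∃ (R : Subgroup (L2 F)) (s : L2 F), IsCyclic R ∧ ♯R = m ∧
    (∀ r ∈ R, r * j = j * r) ∧ orderOf s = 2 ∧ s * j = j * s ∧ s ≠ j ∧ (∀ r ∈ R, s * r * s⁻¹ = r⁻¹) ∧
    (∀ g, g * j = j * g → ∃ r ∈ R, ∃ w, (w = 1 ∨ w = j) ∧ (g = r * w ∨ g = r * w * s)) ∧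
    ∀ g, g * j = j * g → g * g ∈ R := by
  obtain ⟨K, s, c1, c2, jK, un, ss, sK, iv, ce⟩ := j0_inv (j0_odd ha hF) hj
  have c3 : ♯K = 2 * m := (j0_tor ha hF c2).resolve_right fun e =>
    not_mem_of_odd (e ▸ ha.facts.1) hj jK
  obtain ⟨x, rfl⟩ := (Subgroup.isCyclic_iff_exists_zpowers_eq_top _).1 c1
  have le : zpowers (x ^ 2) ≤ zpowers x := zpowers_le.2 (pow_mem (mem_zpowers x) 2)
  have cm := comm_iff_le_cent.1 (comm_of_isCyclic c1)
  have sq : ∀ g ∈ zpowers x, g * g ∈ zpowers (x ^ 2) := by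
    rintro _ ⟨i, rfl⟩
    exact ⟨i, by simp only [pow_two, (Commute.refl x).mul_zpow]⟩
  have d : ∀ g ∈ zpowers x, ∃ r ∈ zpowers (x ^ 2), ∃ w, (w = 1 ∨ w = j) ∧ g = r * w := fun g hg => by
    obtain ⟨a, h⟩ := ha.odd
    refine ⟨((g * g) ^ a)⁻¹, inv_mem (pow_mem (sq g hg) a), g ^ m, or_iff_not_imp_left.2 fun h1 =>
      un _ (pow_mem hg m) (orderOf_eq_prime (by rw [← pow_mul, mul_comm, ← c3, pow_card_eq_one'' hg]) h1),
      by rw [h, ← pow_two, ← pow_mul, pow_succ, inv_mul_cancel_left]⟩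
  refine ⟨zpowers (x ^ 2), s, inferInstance, ?_, fun r hr => mem_cent_iff.1 (cm jK) r (le hr),
    two_of_sq ss fun e => sK (e ▸ one_mem _), mul_inv_eq_iff_eq_mul.1 ((iv j jK).trans (inv_of_two hj)),
    fun e => sK (e ▸ jK), fun r hr => iv r (le hr), fun g hg => ?_, fun g hg => ?_⟩
  · rw [Nat.card_zpowers] at c3 ⊢
    rw [orderOf_pow_of_dvd two_ne_zero ⟨m, c3⟩, c3, Nat.mul_div_cancel_left m two_pos]
  · rcases ce g hg with h | h
    · obtain ⟨r, hr, w, hw, h⟩ := d g h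
      exact ⟨r, hr, w, hw, .inl h⟩
    · obtain ⟨r, hr, w, hw, h⟩ := d _ h
      exact ⟨r, hr, w, hw, .inr (by rw [← h, mul_assoc, ss, mul_one])⟩
  · refine (ce g hg).elim (sq g) fun h => ?_
    have := iv _ h
    rw [← mul_assoc, mul_inv_cancel_right, eq_inv_iff_mul_eq_one, mul_assoc, ← mul_assoc g,
      mul_eq_one_comm, mul_assoc, ss, mul_one] at this
    exact this ▸ one_mem _
theorem j0_k (h : orderOf x = k) : x * x ≠ 1 ∧ (orderOf x).Coprime (Fintype.card F) ∧ ♯𝐂[x] = k := by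
  have f := ha.facts
  have k3 : 3 ≤ k := by
    have := ha.hk
    have := ha.q3
    have := Nat.odd_iff.1 f.1
    rcases ha.he with rfl | rfl <;> omega
  have h1 : x * x ≠ 1 := fun e => by
    have := Nat.le_of_dvd two_pos (h ▸ orderOf_dvd_of_pow_eq_one ((sq x).trans e))
    omega
  have h2 : (orderOf x).Coprime (Fintype.card F) := h ▸ hF ▸ f.2.2.2.2.2.1.symm.pow_right n
  have h3 := (F3 h1 h2).2.1
  rw [j0_gcd (j0_odd ha hF)] at h3
  refine ⟨h1, h2, (j0_tor ha hF h3).resolve_left fun c => ?_⟩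
  have := (Nat.Coprime.mul_right (Nat.coprime_two_right.2 f.1) f.2.2.2.1.symm).eq_one_of_dvd
    (h ▸ c ▸ orderOf_dvd_card' (mem_cent1_self x))
  omega
theorem j0_exT : ∃ x : L2 F, orderOf x = k := by
  obtain ⟨⟨x, h1⟩, y, h2⟩ := F3e (F := F)
  rw [j0_gcd (j0_odd ha hF), hF] at h1 h2
  have := ha.hk
  rcases ha.he with rfl | rfl
  · exact ⟨y, by omega⟩
  · exact ⟨x, by omega⟩
theorem j0_P [Fact p.Prime] (Q : Sylow p (L2 F)) : ♯(Q : Subgroup (L2 F)) = p ^ n ∧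
    (∀ x ∈ (Q : Subgroup (L2 F)), x ^ p = 1) ∧
    (∀ y ∈ (Q : Subgroup (L2 F)), y ≠ 1 → 𝐂[y] = Q) ∧
    2 * ♯𝐍((Q : Subgroup (L2 F))) = p ^ n * (p ^ n - 1) ∧
    (∀ j ∈ 𝐍((Q : Subgroup (L2 F))), orderOf j = 2 → (∀ z ∈ (Q : Subgroup (L2 F)), j * z * j⁻¹ = z⁻¹) ∧
      ∀ x, Odd (orderOf x) → x * j = j * x → x ∈ 𝐍((Q : Subgroup (L2 F)))) ∧
    (e = -1 → ∃ x, orderOf x = k ∧ 𝐂[x] ≤ 𝐍((Q : Subgroup (L2 F)))) := by
  haveI := j0_char ha hF
  have ho := j0_odd ha hF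
  obtain ⟨-, -, -, h1, -, -, h2⟩ := F4 Q
  obtain ⟨z, e1⟩ := exists_cj Q
  refine ⟨by rw [← e1, card_cj, card_U, hF], fun x hx => ?_, h1, ?_, ?_, fun he => ?_⟩
  · obtain ⟨t, h⟩ := (mem_cj.1 (e1.ge hx) : ∃ t, uH F t = _)
    have : t ^ p = 1 := Multiplicative.toAdd.injective (by simp)
    rw [← conj_eq_one_iff (a := z⁻¹), ← conj_pow, inv_inv, ← h, ← map_pow, this, map_one]
  · have c := BW.Z2.card_PSL2 ho
    rw [← (𝐍((Q : Subgroup (L2 F)))).card_mul_index, h2, hF, ← mul_assoc, ← one_pow 2,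
      Nat.sq_sub_sq, one_pow, mul_comm (p ^ n + 1), ← mul_assoc] at c
    exact Nat.eq_of_mul_eq_mul_right (Nat.succ_pos _) c
  · rw [← e1, ← cj_normalizer]
    intro j hj j2
    obtain ⟨J, k⟩ := pr_surj (z⁻¹ * j * z)
    have k1 := mem_NU.1 (k ▸ mem_cj.1 hj)
    obtain rfl : _ = z * pr J * z⁻¹ := by rw [k, ← mul_assoc, ← mul_assoc, mul_inv_cancel, one_mul,
      mul_inv_cancel_right]
    rw [orderOf_cj] at j2
    have t0 := tr_inv2 (j0_two ho) j2
    refine ⟨fun y hy => ?_, fun x x1 x2 => ?_⟩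
    · obtain ⟨t, h⟩ := mem_U.1 (mem_cj.1 hy)
      obtain rfl : _ = z * pr (H8.uX t) * z⁻¹ := by rw [h, ← mul_assoc, ← mul_assoc, mul_inv_cancel,
        one_mul, mul_inv_cancel_right]
      have d := det2 J
      rw [conj_inv, conj_inv, conj_mul, conj_mul, ← map_inv, ← map_inv, ← map_mul, ← map_mul, conj_u k1,
        ← H8.uX_neg, show J 0 0 ^ 2 * t = -t by
          simp only [tr] at t0; linear_combination J 0 0 * t * t0 - t * d - J 0 1 * t * k1]
    · by_cases x0 : x = 1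
      · exact x0 ▸ one_mem _
      obtain ⟨X, h⟩ := pr_surj (z⁻¹ * x * z)
      obtain rfl : _ = z * pr X * z⁻¹ := by rw [h, ← mul_assoc, ← mul_assoc, mul_inv_cancel, one_mul,
        mul_inv_cancel_right]
      rw [conj_mul, conj_mul, mul_left_inj, mul_right_inj] at x2
      obtain ⟨α, β, -, -, e3, -⟩ := exists_ab (not_cen (j0_four (j0_two ho) t0)) (lift (fun e =>
        x0 (eq_one_of_odd x1 (by rw [conj_mul, e, mul_one, mul_inv_cancel]))) x2.symm).symm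
      exact conj_mem_cj (mem_NU.2 (by rw [e3, k1, mul_zero]))
  · obtain ⟨u, hu⟩ := IsCyclic.exists_generator (α := Fˣ)
    have c := card_im (F := F) (C := D.range) fun g hg => by
      rcases mem_cen.1 hg with rfl | rfl <;> exact mem_D (by simp) (by simp)
    have c1 := D_range (F := F).2
    rw [MonoidHom.range_eq_map, ← (eq_top_iff' _).2 hu, MonoidHom.map_zpowers] at c c1
    rw [MonoidHom.map_zpowers, Nat.card_zpowers, j0_gcd ho] at c
    have c2 : orderOf (pr (D u)) = k := by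
      have := ha.facts.2.2.2.2.2.2.2.2.2.2 he
      omega
    refine ⟨z * pr (D u) * z⁻¹, (orderOf_cj _ _).trans c2, ?_⟩
    rw [← e1, ← cj_normalizer, ← cj_cent1]
    refine cj_mono z fun g hg => ?_
    obtain ⟨g, rfl⟩ := pr_surj g
    have h3 := (j0_k ha hF c2).1
    obtain ⟨α, β, -, -, e3, -⟩ := exists_ab (fun k => h3 (by rw [pr_eq_one.2 k, one_mul]))
      (lift h3 (mem_cent1_iff.1 hg))
    exact mem_NU.2 (e3.trans (mul_zero β))

end

end Cfsg.Agent.JR
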